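import Groth.Agent.Lib.Helper2.LocCohZ.Vanish
import Groth.Agent.Lib.Helper3.ClosedEmbSheaf
import Groth.Agent.Lib.Helper13.ClosedEmbPush

/-!
# `i_* ⊣ i⁻¹ Γ_Z` for the inclusion `i : Z ⟶ X` of a closed subset (helper2)
-/

set_option autoImplicit false
universe u

noncomputable section

namespace Groth.Agent.Lib.Helper2.LocCohZLib

open CategoryTheory CategoryTheory.Limits Opposite TopologicalSpace Abelian Topology
open Groth.Agent.Lib.Helper3.ClosedEmbSheaf

variable {X : TopCat.{u}} (U : Opens X)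

lemma isClosedEmbedding_inclCompl : IsClosedEmbedding (CohCx.inclCompl U) :=
  (U.isOpen.isClosed_compl).isClosedEmbedding_subtypeVal

/-- the pullback-pushforward adjunction along `i : Z ⟶ X`. -/
abbrev adjZ : CohTop.pull (CohCx.inclCompl U) ⊣ CohTop.push (CohCx.inclCompl U) :=
  TopCat.Sheaf.pullbackPushforwardAdjunction AddCommGrpCat.{u} (CohCx.inclCompl U)

instance : (CohTop.push (CohCx.inclCompl U)).Full :=
  (ffSheaf (CohCx.inclCompl U) AddCommGrpCat.{u} (isClosedEmbedding_inclCompl U)).full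

instance : (CohTop.push (CohCx.inclCompl U)).Faithful :=
  (ffSheaf (CohCx.inclCompl U) AddCommGrpCat.{u} (isClosedEmbedding_inclCompl U)).faithful

/-- all sections over opens contained in `U` vanish. -/
def VanishOn (H : CohTop.Ab X) : Prop :=
  ∀ W : Opens X, W ≤ U → ∀ s : H.obj.obj (op W), s = 0

lemma Φ_bot_le (W : Opens X)
    (hW : W ≤ (Φ (CohCx.inclCompl U) (isClosedEmbedding_inclCompl U)).obj ⊥) : W ≤ U := by
  intro x hx
  have h1 := (mem_Φ_bot (CohCx.inclCompl U) (isClosedEmbedding_inclCompl U) x).1 (hW hx)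
  by_contra hxU
  exact h1 ⟨⟨x, hxU⟩, rfl⟩

/-- the underlying sheaf of sets. -/
abbrev setSheaf (H : CohTop.Ab X) : X.Sheaf (Type u) :=
  (sheafCompose (Opens.grothendieckTopology X) (forget AddCommGrpCat.{u})).obj H

lemma uniqueBelow_of_vanishOn (H : CohTop.Ab X) (h : VanishOn U H) :
    UniqueBelow (setSheaf H)
      ((Φ (CohCx.inclCompl U) (isClosedEmbedding_inclCompl U)).obj ⊥) := by
  intro W' hW'
  exact ⟨⟨⟨(0 : H.obj.obj (op W'))⟩, fun s => h W' (Φ_bot_le U W' hW') s⟩⟩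

/-- **A sheaf vanishing on `U` is a pushforward from `Z`.** -/
theorem essImage_of_vanishOn (H : CohTop.Ab X) (h : VanishOn U H) :
    (CohTop.push (CohCx.inclCompl U)).essImage H := by
  let i := CohCx.inclCompl U
  have hi := isClosedEmbedding_inclCompl U
  have hW := uniqueBelow_of_vanishOn U H h
  have hiso : IsIso ((adjP i AddCommGrpCat.{u} hi).counit.app H.1) := by
    have : ∀ V, IsIso (((adjP i AddCommGrpCat.{u} hi).counit.app H.1).app V) := by
      intro V
      rw [adjP, Adjunction.whiskerLeft_counit_app_app, ConcreteCategory.isIso_iff_bijective]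
      have hg : ((adj i hi).op.counit.app V) = ((adj i hi).op.counit.app V).unop.op := rfl
      rw [hg]
      exact bijective_res i hi (setSheaf H) hW V.unop _
    exact NatIso.isIso_of_isIso_app _
  have hsh : TopCat.Presheaf.IsSheaf ((Φ i hi).op ⋙ H.1) :=
    (TopCat.Presheaf.isSheaf_iff_isSheaf_comp (forget AddCommGrpCat.{u}) _).2
      (isSheaf_Φ_comp i hi (setSheaf H) hW)
  let Fs : CohTop.Ab (TopCat.of ((U : Set X)ᶜ : Set X)) := ⟨(Φ i hi).op ⋙ H.1, hsh⟩
  exact ⟨Fs, ⟨(TopCat.Sheaf.forget AddCommGrpCat.{u} X).preimageIso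
    (@asIso _ _ _ _ ((adjP i AddCommGrpCat.{u} hi).counit.app H.1) hiso)⟩⟩

lemma vanishOn_push (G : CohTop.Ab (TopCat.of ((U : Set X)ᶜ : Set X))) :
    VanishOn U ((CohTop.push (CohCx.inclCompl U)).obj G) := by
  intro W hW s
  have hbot : (Opens.map (CohCx.inclCompl U)).obj W = ⊥ := by
    apply Opens.ext
    ext z
    simp only [Opens.map_coe, Set.mem_preimage, Opens.coe_bot, Set.mem_empty_iff_false, iff_false]
    intro hz
    exact z.2 (hW hz)
  have hT : IsTerminal (G.1.obj (op ((Opens.map (CohCx.inclCompl U)).obj W))) :=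
    TopCat.Sheaf.isTerminalOfEqEmpty G hbot
  have hZ : IsZero (G.1.obj (op ((Opens.map (CohCx.inclCompl U)).obj W))) :=
    IsZero.of_iso (isZero_zero _) (hT.uniqueUpToIso (isZero_zero _).isTerminal)
  haveI := AddCommGrpCat.subsingleton_of_isZero hZ
  exact Subsingleton.elim (α := G.1.obj (op ((Opens.map (CohCx.inclCompl U)).obj W))) _ _

lemma vanishOn_sectSupp (F : CohTop.Ab X) : VanishOn U (CohCx.sectSupp U F) := by
  intro W hW t
  apply sectSuppι_app_injective U F W
  rw [map_zero]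
  have h1 := sectSuppι_app_mem U F W t
  have e : W ⊓ U = W := inf_eq_left.2 hW
  have h2 := (map_eq_zero_iff_of_eq F e inf_le_left le_rfl
    (((sectSuppι U F).hom.app (op W)).hom t)).1 h1
  have h3 : F.obj.map (homOfLE (le_refl W)).op = 𝟙 _ := by
    have : (homOfLE (le_refl W)).op = 𝟙 (op W) := Subsingleton.elim _ _
    rw [this, F.obj.map_id]
  rw [h3] at h2
  exact h2

instance isIso_unit_sectSupp (F : CohTop.Ab X) :
    IsIso ((adjZ U).unit.app (CohCx.sectSupp U F)) :=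
  ((adjZ U).isIso_unit_app_iff_mem_essImage).2
    (essImage_of_vanishOn U _ (vanishOn_sectSupp U F))

/-- the inverse of the unit at `Γ_Z F`. -/
def ηinv (F : CohTop.Ab X) :
    (CohTop.push (CohCx.inclCompl U)).obj ((CohTop.pull (CohCx.inclCompl U)).obj
      (CohCx.sectSupp U F)) ⟶ CohCx.sectSupp U F :=
  @inv _ _ _ _ ((adjZ U).unit.app (CohCx.sectSupp U F)) (isIso_unit_sectSupp U F)

lemma η_ηinv (F : CohTop.Ab X) :
    (adjZ U).unit.app (CohCx.sectSupp U F) ≫ ηinv U F = 𝟙 (CohCx.sectSupp U F) :=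
  @IsIso.hom_inv_id _ _ _ _ ((adjZ U).unit.app (CohCx.sectSupp U F)) (isIso_unit_sectSupp U F)

lemma ηinv_η (F : CohTop.Ab X) :
    ηinv U F ≫ (adjZ U).unit.app (CohCx.sectSupp U F) = 𝟙 _ :=
  @IsIso.inv_hom_id _ _ _ _ ((adjZ U).unit.app (CohCx.sectSupp U F)) (isIso_unit_sectSupp U F)

variable {U}

lemma comp_unit_eq_zero {G : CohTop.Ab (TopCat.of ((U : Set X)ᶜ : Set X))} {F : CohTop.Ab X}
    (φ : (CohTop.push (CohCx.inclCompl U)).obj G ⟶ F) :
    φ ≫ (adjPull U).unit.app F = 0 := by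
  apply hom_eq_zero_of_app
  intro V s
  change (((adjPull U).unit.app F).hom.app (op V)).hom ((φ.hom.app (op V)).hom s) = 0
  rw [unit_app_eq_zero_iff]
  have nat := congrArg (fun t => t.hom s)
    (φ.hom.naturality (homOfLE (inf_le_left : V ⊓ U ≤ V)).op)
  have hz := vanishOn_push U G (V ⊓ U) inf_le_right
    ((((CohTop.push (CohCx.inclCompl U)).obj G).obj.map (homOfLE (inf_le_left : V ⊓ U ≤ V)).op).hom s)
  refine nat.symm.trans ?_
  change (φ.hom.app (op (V ⊓ U))).hom
    ((((CohTop.push (CohCx.inclCompl U)).obj G).obj.map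
      (homOfLE (inf_le_left : V ⊓ U ≤ V)).op).hom s) = 0
  rw [hz, map_zero]

/-- a map `i_* G ⟶ F` factors through `Γ_Z F`. -/
def liftZ {G : CohTop.Ab (TopCat.of ((U : Set X)ᶜ : Set X))} {F : CohTop.Ab X}
    (φ : (CohTop.push (CohCx.inclCompl U)).obj G ⟶ F) :
    (CohTop.push (CohCx.inclCompl U)).obj G ⟶ CohCx.sectSupp U F :=
  kernel.lift _ φ (comp_unit_eq_zero φ)

lemma liftZ_ι {G : CohTop.Ab (TopCat.of ((U : Set X)ᶜ : Set X))} {F : CohTop.Ab X}
    (φ : (CohTop.push (CohCx.inclCompl U)).obj G ⟶ F) : liftZ φ ≫ sectSuppι U F = φ :=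
  kernel.lift_ι _ _ _

lemma liftZ_comp_ι {G : CohTop.Ab (TopCat.of ((U : Set X)ᶜ : Set X))} {F : CohTop.Ab X}
    (χ : (CohTop.push (CohCx.inclCompl U)).obj G ⟶ CohCx.sectSupp U F) :
    liftZ (χ ≫ sectSuppι U F) = χ := by
  rw [← cancel_mono (sectSuppι U F), liftZ_ι]

variable (U)

/-- `φ ↦ φ♭`. -/
def toZ {G : CohTop.Ab (TopCat.of ((U : Set X)ᶜ : Set X))} {F : CohTop.Ab X}
    (φ : (CohTop.push (CohCx.inclCompl U)).obj G ⟶ F) :
    G ⟶ (CohTop.pull (CohCx.inclCompl U)).obj (CohCx.sectSupp U F) :=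
  (CohTop.push (CohCx.inclCompl U)).preimage
    (liftZ φ ≫ (adjZ U).unit.app (CohCx.sectSupp U F))

/-- `ψ ↦ ψ♯`. -/
def fromZ {G : CohTop.Ab (TopCat.of ((U : Set X)ᶜ : Set X))} {F : CohTop.Ab X}
    (ψ : G ⟶ (CohTop.pull (CohCx.inclCompl U)).obj (CohCx.sectSupp U F)) :
    (CohTop.push (CohCx.inclCompl U)).obj G ⟶ F :=
  (CohTop.push (CohCx.inclCompl U)).map ψ ≫ ηinv U F ≫ sectSuppι U F

lemma fromZ_toZ {G : CohTop.Ab (TopCat.of ((U : Set X)ᶜ : Set X))} {F : CohTop.Ab X}
    (φ : (CohTop.push (CohCx.inclCompl U)).obj G ⟶ F) : fromZ U (toZ U φ) = φ := by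
  unfold fromZ toZ
  rw [Functor.map_preimage, Category.assoc, ← Category.assoc _ (ηinv U F) _, η_ηinv,
    Category.id_comp, liftZ_ι]

lemma toZ_fromZ {G : CohTop.Ab (TopCat.of ((U : Set X)ᶜ : Set X))} {F : CohTop.Ab X}
    (ψ : G ⟶ (CohTop.pull (CohCx.inclCompl U)).obj (CohCx.sectSupp U F)) :
    toZ U (fromZ U ψ) = ψ := by
  apply (CohTop.push (CohCx.inclCompl U)).map_injective
  unfold fromZ toZ
  rw [Functor.map_preimage, ← Category.assoc _ (ηinv U F) _, liftZ_comp_ι, Category.assoc,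
    ηinv_η, Category.comp_id]

lemma fromZ_comp_left {G' G : CohTop.Ab (TopCat.of ((U : Set X)ᶜ : Set X))} {F : CohTop.Ab X}
    (f : G' ⟶ G) (ψ : G ⟶ (CohTop.pull (CohCx.inclCompl U)).obj (CohCx.sectSupp U F)) :
    fromZ U (f ≫ ψ) = (CohTop.push (CohCx.inclCompl U)).map f ≫ fromZ U ψ := by
  unfold fromZ
  rw [Functor.map_comp, Category.assoc]

lemma push_pull_map_ηinv {F F' : CohTop.Ab X} (g : F ⟶ F') :
    (CohTop.push (CohCx.inclCompl U)).map ((CohTop.pull (CohCx.inclCompl U)).map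
        (sectSuppMap U g)) ≫ ηinv U F' = ηinv U F ≫ sectSuppMap U g := by
  have nat : (adjZ U).unit.app (CohCx.sectSupp U F) ≫
      (CohTop.push (CohCx.inclCompl U)).map ((CohTop.pull (CohCx.inclCompl U)).map
        (sectSuppMap U g)) = sectSuppMap U g ≫ (adjZ U).unit.app (CohCx.sectSupp U F') :=
    ((adjZ U).unit.naturality (sectSuppMap U g)).symm
  have h := congrArg (fun t => ηinv U F ≫ t ≫ ηinv U F') nat
  simp only [Category.assoc] at h
  rw [η_ηinv, Category.comp_id] at h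
  rw [← Category.assoc (ηinv U F) _ _, ηinv_η, Category.id_comp] at h
  exact h

lemma fromZ_comp_right {G : CohTop.Ab (TopCat.of ((U : Set X)ᶜ : Set X))} {F F' : CohTop.Ab X}
    (g : F ⟶ F') (ψ : G ⟶ (CohTop.pull (CohCx.inclCompl U)).obj (CohCx.sectSupp U F)) :
    fromZ U (ψ ≫ (CohTop.pull (CohCx.inclCompl U)).map (sectSuppMap U g)) = fromZ U ψ ≫ g := by
  unfold fromZ
  rw [Functor.map_comp, Category.assoc, ← Category.assoc _ (ηinv U F') _, push_pull_map_ηinv,
    Category.assoc, sectSuppMap_ι, Category.assoc, Category.assoc]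

/-- the hom-set bijection of the adjunction `i_* ⊣ i⁻¹ Γ_Z`. -/
def homEquivZ (G : CohTop.Ab (TopCat.of ((U : Set X)ᶜ : Set X))) (F : CohTop.Ab X) :
    ((CohTop.push (CohCx.inclCompl U)).obj G ⟶ F) ≃
      (G ⟶ (CohTop.pull (CohCx.inclCompl U)).obj (CohCx.sectSupp U F)) where
  toFun φ := toZ U φ
  invFun ψ := fromZ U ψ
  left_inv φ := fromZ_toZ U φ
  right_inv ψ := toZ_fromZ U ψ

/-- **`i_* ⊣ i⁻¹ Γ_Z`.** -/
def adjClosed : CohTop.push (CohCx.inclCompl U) ⊣
    LocCohZ.sectSuppF U ⋙ CohTop.pull (CohCx.inclCompl U) :=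
  Adjunction.mkOfHomEquiv
    { homEquiv := fun G F => homEquivZ U G F
      homEquiv_naturality_left_symm := by
        intro G' G F f g
        exact fromZ_comp_left U f g
      homEquiv_naturality_right := by
        intro G F F' f g
        refine (homEquivZ U G F').symm.injective ?_
        change fromZ U (toZ U (f ≫ g)) =
          fromZ U (toZ U f ≫ (CohTop.pull (CohCx.inclCompl U)).map (sectSuppMap U g))
        exact (fromZ_toZ U (f ≫ g)).trans (((fromZ_comp_right U g (toZ U f)).trans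
          (congrArg (fun t => t ≫ g) (fromZ_toZ U f))).symm) }

lemma push_preservesMono {Y Z : TopCat.{u}} (f : Y ⟶ Z) :
    (CohTop.push f).PreservesMonomorphisms :=
  Functor.preservesMonomorphisms_of_adjunction
    (TopCat.Sheaf.pullbackPushforwardAdjunction AddCommGrpCat.{u} f)

/-- `i⁻¹ Γ_Z` preserves injectives. -/
theorem injective_pull_sectSupp (F : CohTop.Ab X) [Injective F] :
    Injective ((CohTop.pull (CohCx.inclCompl U)).obj (CohCx.sectSupp U F)) :=
  haveI := push_preservesMono (CohCx.inclCompl U)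
  Injective.injective_of_adjoint (adjClosed U) F

/-- **`Γ_Z` preserves injectives.** -/
theorem injective_sectSupp (F : CohTop.Ab X) [Injective F] : Injective (CohCx.sectSupp U F) := by
  haveI := Groth.Agent.Lib.Helper13.ClosedEmbPush.pull_preservesMonomorphisms
    (CohCx.inclCompl U)
  haveI := injective_pull_sectSupp U F
  have h1 : Injective ((CohTop.push (CohCx.inclCompl U)).obj
      ((CohTop.pull (CohCx.inclCompl U)).obj (CohCx.sectSupp U F))) :=
    Injective.injective_of_adjoint (adjZ U) _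
  have h2 := isIso_unit_sectSupp U F
  exact @Injective.of_iso _ _ _ _
    (@asIso _ _ _ _ ((adjZ U).unit.app (CohCx.sectSupp U F)) h2).symm h1

end Groth.Agent.Lib.Helper2.LocCohZLib
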