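import Groth.Agent.Lib.Helper2.LocCohZ.LeftExact
import Groth.Agent.Lib.Helper2.GSS.NatDerived
import Groth.Agent.Lib.Helper13.OverRestrAcyclic
import Groth.Agent.Lib.Helper13.DerivedExact
import Groth.Agent.Lib.Helper1.FlasqueAcyclic
import Groth.Prelude.Def_CohPull

/-!
# The sequence `0 ⟶ Γ_Z ⟶ 𝟭 ⟶ j_* j⁻¹ ⟶ 0` of functors of abelian sheaves on a space (helper2)

* `shriek U`, `adjShriek U : j_! ⊣ (-)|_U`; restriction to an open / `j⁻¹` preserve injectives.
* `sectSuppιN U : Γ_Z ⟶ 𝟭`, `unitN U : 𝟭 ⟶ j⁻¹ ⋙ j_*`, short exact on injectives.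
* `deltaZ U n : Rⁿ(j⁻¹ ⋙ j_*) ⟶ ℋ^{n+1}_Z`, iso for `n ≥ 1`.
-/

set_option autoImplicit false
universe u

namespace Groth.Agent.Lib.Helper2.LocCohZLib

open CategoryTheory CategoryTheory.Limits Opposite TopologicalSpace Abelian
open Groth.Agent.Lib.Helper13.OverRestrAcyclic

variable {X : TopCat.{u}} (U : Opens X)

/-- extension by zero `j_!` from an open subspace. -/
noncomputable def shriek : CohTop.Ab (TopCat.of U) ⥤ CohTop.Ab X :=
  (U.sheafEquivOver (A := AddCommGrpCat.{u})).inverse ⋙ shriekAb (Opens.grothendieckTopology X) U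

/-- `j_! ⊣ (-)|_U`. -/
noncomputable def adjShriek : shriek U ⊣ U.sheafRestrict (C := AddCommGrpCat.{u}) :=
  ((U.sheafEquivOver (A := AddCommGrpCat.{u})).symm.toAdjunction.comp
    (adjAb (Opens.grothendieckTopology X) U))

instance : PreservesFiniteLimits (shriek U) := by
  unfold shriek
  infer_instance

instance : (shriek U).PreservesMonomorphisms := inferInstance

/-- restriction to an open subspace preserves injectives. -/
theorem injective_sheafRestrict (I : CohTop.Ab X) [Injective I] :
    Injective ((U.sheafRestrict (C := AddCommGrpCat.{u})).obj I) :=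
  Injective.injective_of_adjoint (adjShriek U) I

/-- `j⁻¹` preserves injectives for `j` the inclusion of an open. -/
theorem injective_pull (I : CohTop.Ab X) [Injective I] :
    Injective ((CohTop.pull (CohCx.incl U)).obj I) :=
  haveI := injective_sheafRestrict U I
  Injective.of_iso ((pullIsoRes U).app I).symm inferInstance

/-! ### The sequence of functors -/

/-- the natural transformation `Γ_Z ⟶ 𝟭`. -/
noncomputable def sectSuppιN : LocCohZ.sectSuppF U ⟶ 𝟭 (CohTop.Ab X) where
  app F := sectSuppι U F
  naturality {F G} φ := sectSuppMap_ι U φ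

/-- the functor `j_* j⁻¹`. -/
noncomputable abbrev pullPush : CohTop.Ab X ⥤ CohTop.Ab X :=
  CohTop.pull (CohCx.incl U) ⋙ CohTop.push (CohCx.incl U)

instance : (CohTop.pull (CohCx.incl U)).Additive := CohPull.additive_pull _
instance : PreservesFiniteLimits (CohTop.pull (CohCx.incl U)) := CohPull.preservesFiniteLimits_pull _
instance : PreservesFiniteColimits (CohTop.pull (CohCx.incl U)) :=
  CohPull.preservesFiniteColimits_pull _

instance : (CohTop.push (CohCx.incl U)).Additive := CohTop.instAdditiveAbPush _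

instance : (pullPush U).Additive := by
  unfold pullPush
  infer_instance

lemma sectSuppιN_comp_unit : sectSuppιN U ≫ (adjPull U).unit = 0 := by
  ext F : 2
  exact kernel.condition _

/-- the restriction-adjunction unit is surjective on sections of a flasque sheaf. -/
lemma epi_unit_adjRes (F : CohTop.Ab X) [TopCat.Sheaf.IsFlasque F] :
    Epi ((adjRes U).unit.app F) := by
  apply epi_of_app_surjective
  intro V
  have h : Epi (F.obj.map (homOfLE (show (Groth.Agent.Lib.Helper3.OpenEmbSheaf.Fj U).obj
      ((Opens.map (Groth.Agent.Lib.Helper3.OpenEmbSheaf.j U)).obj V) ≤ V from by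
        rw [image_preimage_eq]; exact inf_le_left)).op) :=
    TopCat.Presheaf.IsFlasque.epi _
  rw [AddCommGrpCat.epi_iff_surjective] at h
  exact h

lemma epi_unit_adjPull (F : CohTop.Ab X) [TopCat.Sheaf.IsFlasque F] :
    Epi ((adjPull U).unit.app F) := by
  have h := unit_comp U F
  haveI := epi_unit_adjRes U F
  have h2 : (adjPull U).unit.app F = (adjRes U).unit.app F ≫
      inv ((CohTop.push (CohCx.incl U)).map ((pullIsoRes U).hom.app F)) := by
    rw [← h, Category.assoc, IsIso.hom_inv_id, Category.comp_id]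
  rw [h2]
  infer_instance

/-- the sequence `0 ⟶ Γ_Z I ⟶ I ⟶ j_* j⁻¹ I ⟶ 0` is exact for injective (indeed flasque) `I`. -/
theorem shortExact_of_injective (I : CohTop.Ab X) (hI : Injective I) :
    (ShortComplex.mk ((sectSuppιN U).app I) ((adjPull U).unit.app I)
      (FunctorSES.app_comp_app (sectSuppιN U) (adjPull U).unit (sectSuppιN_comp_unit U) I)).ShortExact := by
  haveI := Groth.Agent.Lib.Helper1.FlasqueAcyclic.isFlasque_of_injective I
  haveI : Mono ((sectSuppιN U).app I) := inferInstanceAs (Mono (kernel.ι _))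
  haveI : Epi ((adjPull U).unit.app I) := epi_unit_adjPull U I
  refine ShortComplex.ShortExact.mk (ShortComplex.exact_of_f_is_kernel _ ?_)
  exact kernelIsKernel _

end Groth.Agent.Lib.Helper2.LocCohZLib
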