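import Groth.Agent.Lib.Helper2.LocCohZ.Vanish
import Groth.Agent.Lib.Helper2.GSS.ExtContra

/-!
# `ℋ^N_Z(F) = 0` from bijectivity of restriction in degrees `< N` (helper2)

If `H^i_{Z∩V}(V,F) = 0` for `i ≤ n` and `H^{n+1}_{Z∩V}(V,F) ⟶ H^{n+1}(V,F)` is injective for all `V`,
then `ℋ^{n+1}_Z(F) = 0`.  Dimension shifting reduces to `n = 0`, where the hypothesis says that
`F ⟶ j_* j⁻¹ F` is an isomorphism, and `ℋ^1_Z(F)` is its cokernel.
-/

set_option autoImplicit false
universe w v u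

namespace Groth.Agent.Lib.Helper2.LocCohZLib

open CategoryTheory CategoryTheory.Limits Opposite TopologicalSpace Abelian

section Abstract

variable {C : Type u} [Category.{v} C] [Abelian C] [HasExt.{w} C]

/-- injectivity of `p^* : Ext^{n+1}(A, X₁) ⟶ Ext^{n+1}(B, X₁)` gives injectivity of
`p^* : Ext^n(A, X₃) ⟶ Ext^n(B, X₃)` when `Ext^n(A, X₂) = 0`. -/
theorem injective_precomp_shift (S : ShortComplex C) (hS : S.ShortExact) {A B : C} (p : B ⟶ A)
    (n : ℕ) (h0 : Subsingleton (Ext A S.X₂ n))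
    (hinj : Function.Injective ((Ext.mk₀ p).precomp S.X₁ (zero_add (n + 1)))) :
    Function.Injective ((Ext.mk₀ p).precomp S.X₃ (zero_add n)) := by
  rw [injective_iff_map_eq_zero]
  intro d hd
  have hd' : (Ext.mk₀ p).comp d (zero_add n) = 0 := hd
  have h1 : d.comp hS.extClass (rfl : n + 1 = n + 1) = 0 := by
    apply hinj
    rw [map_zero]
    have e := Ext.comp_assoc (Ext.mk₀ p) d hS.extClass (zero_add n) (rfl : n + 1 = n + 1)
      (by omega : 0 + n + 1 = n + 1)
    refine e.symm.trans ?_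
    rw [hd', Ext.zero_comp]
  obtain ⟨x₂, hx₂⟩ := Ext.covariant_sequence_exact₃ A hS d rfl h1
  rw [← hx₂, Subsingleton.elim x₂ 0, Ext.zero_comp]

/-- surjectivity of `Ext^n(X₂, Y) ⟶ Ext^n(X₁, Y)` gives injectivity of
`Ext^{n+1}(X₃, Y) ⟶ Ext^{n+1}(X₂, Y)`. -/
theorem injective_g_of_surjective (S : ShortComplex C) (hS : S.ShortExact) (Y : C) (n : ℕ)
    (hsurj : Function.Surjective (ExtContra.r S Y n)) :
    Function.Injective ((Ext.mk₀ S.g).precomp Y (zero_add (n + 1))) := by
  rw [injective_iff_map_eq_zero]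
  intro x₃ h3
  have h3' : (Ext.mk₀ S.g).comp x₃ (zero_add (n + 1)) = 0 := h3
  obtain ⟨x₁, hx₁⟩ := Ext.contravariant_sequence_exact₃ hS Y x₃ h3' (add_comm 1 n)
  obtain ⟨x₂, hx₂⟩ := hsurj x₁
  rw [← hx₁, ← hx₂]
  change hS.extClass.comp ((Ext.mk₀ S.f).comp x₂ (zero_add n)) (add_comm 1 n) = 0
  rw [ShortComplex.ShortExact.extClass_comp_assoc]

end Abstract

variable {X : TopCat.{u}} (U : Opens X)

/-! ### The embedding used for dimension shifting -/

theorem exists_embed (F : CohTop.Ab X) (hF : IsZero (CohCx.sectSupp U F)) :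
    ∃ (I' : CohTop.Ab X) (m : F ⟶ I'), Mono m ∧
      (∀ k : ℕ, IsZero ((LocCohZ.HZsh U k).obj I')) ∧
      ∀ (V : Opens X) (k : ℕ), Subsingleton (LocCohZ.HZ I' k (inf_le_left : V ⊓ U ≤ V)) := by
  let I := Injective.under F
  haveI : TopCat.Sheaf.IsFlasque I := Groth.Agent.Lib.Helper1.FlasqueAcyclic.isFlasque_of_injective I
  let I' := cokernel (sectSuppι U I)
  have hI'0 : IsZero (CohCx.sectSupp U I') := isZero_sectSupp_quot U I
  haveI : TopCat.Sheaf.IsFlasque I' := isFlasque_quot U I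
  refine ⟨I', Injective.ι F ≫ cokernel.π (sectSuppι U I), mono_comp_quot U (Injective.ι F) hF, ?_, ?_⟩
  · intro k
    cases k with
    | zero => exact (isZero_HZsh_zero_iff U I').2 hI'0
    | succ k => exact isZero_HZsh_of_isFlasque U I' k
  · intro V k
    cases k with
    | zero => exact (isZero_sectSupp_iff U I').1 hI'0 V
    | succ k => exact flasque_HZ_subsingleton (inf_le_left : V ⊓ U ≤ V) k I'

/-! ### The base case -/

lemma isIso_of_bijective_app {F G : CohTop.Ab X} (φ : F ⟶ G)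
    (h : ∀ V : Opens X, Function.Bijective (φ.hom.app (op V)).hom) : IsIso φ := by
  haveI : ∀ V : (Opens X)ᵒᵖ, IsIso (φ.hom.app V) := fun V => by
    rw [ConcreteCategory.isIso_iff_bijective]
    exact h V.unop
  haveI : IsIso φ.hom := NatIso.isIso_of_isIso_app _
  haveI : IsIso ((sheafToPresheaf _ _).map φ) := ‹IsIso φ.hom›
  exact isIso_of_reflects_iso φ (sheafToPresheaf _ _)

lemma bijective_of_eq (F : CohTop.Ab X) {V W W' : Opens X} (e : W = W') (a : W ≤ V) (b : W' ≤ V)
    (hb : Function.Bijective (F.obj.map (homOfLE b).op).hom) :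
    Function.Bijective (F.obj.map (homOfLE a).op).hom := by
  subst e
  exact hb

theorem isIso_unit_of_bijective (F : CohTop.Ab X)
    (hb : ∀ V : Opens X,
      Function.Bijective (F.obj.map (homOfLE (inf_le_left : V ⊓ U ≤ V)).op).hom) :
    IsIso ((adjPull U).unit.app F) := by
  have h1 : IsIso ((adjRes U).unit.app F) := by
    apply isIso_of_bijective_app
    intro V
    exact bijective_of_eq F (image_preimage_eq U V) _ _ (hb V)
  have h2 := unit_comp U F
  haveI : IsIso ((CohTop.push (CohCx.incl U)).map ((pullIsoRes U).hom.app F)) := inferInstance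
  haveI : IsIso ((adjPull U).unit.app F ≫
      (CohTop.push (CohCx.incl U)).map ((pullIsoRes U).hom.app F)) := by
    rw [h2]
    exact h1
  exact IsIso.of_isIso_comp_right _ ((CohTop.push (CohCx.incl U)).map ((pullIsoRes U).hom.app F))

theorem isZero_HZsh_one_of_iso (e : LocCohZ.HZsh U 1 ≅ cokernel (adjPull U).unit) (F : CohTop.Ab X)
    (hb : ∀ V : Opens X,
      Function.Bijective (F.obj.map (homOfLE (inf_le_left : V ⊓ U ≤ V)).op).hom) :
    IsZero ((LocCohZ.HZsh U 1).obj F) := by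
  haveI : IsIso ((adjPull U).unit.app F) := isIso_unit_of_bijective U F hb
  refine IsZero.of_iso ?_ (e.app F)
  have hπ : (adjPull U).unit.app F ≫ (cokernel.π (adjPull U).unit).app F = 0 := by
    rw [← NatTrans.comp_app, cokernel.condition]
    rfl
  have h0 : (cokernel.π (adjPull U).unit).app F = 0 := by
    rw [← cancel_epi ((adjPull U).unit.app F), hπ, comp_zero]
  haveI : Epi ((cokernel.π (adjPull U).unit).app F) := inferInstance
  exact IsZero.of_epi_eq_zero _ h0

/-- `Γ_{V∖W}(V,F) = 0` and `H^1_{V∖W}(V,F) ↪ H^1(V,F)` imply `F(V) ≅ F(W)`. -/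
theorem bijective_sections_of_R1 (F : CohTop.Ab X) {W V : Opens X} (h : W ≤ V)
    (h0 : Subsingleton (LocCohZ.HZ F 0 h)) (h1 : Function.Injective (LocCohZ.toHU F 1 h)) :
    Function.Bijective (F.obj.map (homOfLE h).op).hom := by
  constructor
  · rw [injective_iff_map_eq_zero]
    intro s hs
    have : (⟨s, hs⟩ : LocCohZ.sectZ F h) = 0 := by
      apply (LocCohZ.sect0Equiv F h).symm.injective
      exact Subsingleton.elim _ _
    exact congrArg Subtype.val this
  · intro s
    let x₁ : Ext (LocCohZ.zqSeq h).X₁ F 0 :=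
      Ext.mk₀ (CohFree.ofSect (Opens.grothendieckTopology X) W F s)
    have hx₁ : (LocCohZ.zqSeq_shortExact h).extClass.comp x₁ (by omega : 1 + 0 = 1) = 0 := by
      apply h1
      refine Eq.trans ?_ (map_zero (LocCohZ.toHU F 1 h)).symm
      exact ShortComplex.ShortExact.comp_extClass_assoc (LocCohZ.zqSeq_shortExact h) x₁ _
    obtain ⟨x₂, hx₂⟩ := Ext.contravariant_sequence_exact₁ (LocCohZ.zqSeq_shortExact h) F x₁
      (by omega : 1 + 0 = 1) hx₁
    have e : (LocCohZ.zqSeq h).f ≫ Ext.addEquiv₀ x₂ =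
        CohFree.ofSect (Opens.grothendieckTopology X) W F s := by
      apply (Ext.mk₀_bijective _ _).1
      rw [← Ext.mk₀_comp_mk₀, Ext.mk₀_addEquiv₀_apply]
      exact hx₂
    refine ⟨CohFree.evalGen (Opens.grothendieckTopology X) V F (Ext.addEquiv₀ x₂), ?_⟩
    rw [← CohFree.evalGen_freeSheafMap_comp]
    exact (congrArg (CohFree.evalGen (Opens.grothendieckTopology X) W F) e).trans
      (CohFree.evalGen_ofSect _ _ _ _)

/-! ### The induction -/

/-- if `H^i_{Z∩V}(V,F) = 0` for `i ≤ n` and `H^{n+1}_{Z∩V}(V,F) ⟶ H^{n+1}(V,F)` is injective, for all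
opens `V`, then `ℋ^{n+1}_Z(F) = 0`. -/
theorem isZero_HZsh_succ_of_injective (e : LocCohZ.HZsh U 1 ≅ cokernel (adjPull U).unit) (n : ℕ) :
    ∀ (F : CohTop.Ab X),
      (∀ (V : Opens X) (i : ℕ), i < n + 1 →
        Subsingleton (LocCohZ.HZ F i (inf_le_left : V ⊓ U ≤ V))) →
      (∀ V : Opens X, Function.Injective (LocCohZ.toHU F (n + 1) (inf_le_left : V ⊓ U ≤ V))) →
      IsZero ((LocCohZ.HZsh U (n + 1)).obj F) := by
  induction n with
  | zero =>
    intro F h0 hinj
    apply isZero_HZsh_one_of_iso U e F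
    intro V
    exact bijective_sections_of_R1 F _ (h0 V 0 Nat.zero_lt_one) (hinj V)
  | succ n ih =>
    intro F h0 hinj
    have hΓ : IsZero (CohCx.sectSupp U F) :=
      (isZero_sectSupp_iff U F).2 (fun V => h0 V 0 (Nat.succ_pos _))
    obtain ⟨I', m, hm, h1, h2⟩ := exists_embed U F hΓ
    haveI := hm
    let S : ShortComplex (CohTop.Ab X) := ShortComplex.mk m (cokernel.π m) (cokernel.condition m)
    have hS : S.ShortExact :=
      { exact := ShortComplex.exact_of_g_is_cokernel _ (cokernelIsCokernel _)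
        mono_f := hm
        epi_g := inferInstanceAs (Epi (cokernel.π m)) }
    have hC : IsZero ((LocCohZ.HZsh U (n + 1)).obj S.X₃) := by
      apply ih S.X₃
      · intro V i hi
        exact (DimShiftIff.ext_subsingleton_iff _ S hS i (h2 V i) (h2 V (i + 1))).2
          (h0 V (i + 1) (Nat.succ_lt_succ hi))
      · intro V
        exact injective_precomp_shift S hS _ (n + 1) (h2 V (n + 1)) (hinj V)
    exact (DimShiftIff.isZero_iff_of_isZero (LocCohZ.sectSuppF U) S hS (n + 1) (h1 (n + 1))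
      (h1 (n + 1 + 1))).1 hC

/-- **bijectivity of `H^i(V,F) ⟶ H^i(V∩U,F)` for `i < N` (`N > 0`) forces `ℋ^i_Z(F) = 0` for `i ≤ N`.** -/
theorem isZero_HZsh_of_res_bijective (e : LocCohZ.HZsh U 1 ≅ cokernel (adjPull U).unit)
    (F : CohTop.Ab X) (N : ℕ) (hN : 0 < N)
    (h : ∀ (V : Opens X) (i : ℕ), i < N →
      Function.Bijective (CohTop.res F i (inf_le_left : V ⊓ U ≤ V))) :
    ∀ i : ℕ, i ≤ N → IsZero ((LocCohZ.HZsh U i).obj F) := by
  obtain ⟨M, rfl⟩ : ∃ M, N = M + 1 := ⟨N - 1, by omega⟩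
  have key : ∀ (V : Opens X) (i : ℕ), i < M + 1 →
      Subsingleton (LocCohZ.HZ F i (inf_le_left : V ⊓ U ≤ V)) := by
    intro V i hi
    exact (ExtContra.subsingleton_iff.{u}
      (LocCohZ.zqSeq (X := X) (inf_le_left : V ⊓ U ≤ V))
      (LocCohZ.zqSeq_shortExact (X := X) (inf_le_left : V ⊓ U ≤ V)) F M).2
      ⟨fun i hi => h V i (Nat.lt_succ_of_lt hi), (h V M (Nat.lt_succ_self M)).1⟩ i
      (Nat.lt_succ_iff.1 hi)
  intro i hi
  rcases Nat.lt_or_ge i (M + 1) with hlt | hge
  · exact (isZero_HZsh_iff U (M + 1) F).2 key i hlt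
  · obtain rfl : i = M + 1 := le_antisymm hi hge
    apply isZero_HZsh_succ_of_injective U e M F key
    intro V
    exact injective_g_of_surjective.{u}
      (LocCohZ.zqSeq (X := X) (inf_le_left : V ⊓ U ≤ V))
      (LocCohZ.zqSeq_shortExact (X := X) (inf_le_left : V ⊓ U ≤ V)) F M
      (h V M (Nat.lt_succ_self M)).2

end Groth.Agent.Lib.Helper2.LocCohZLib
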