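import Groth.Prelude.Def_LocCohZ
import Groth.Agent.Lib.Helper1.FlasqueAcyclic

/-!
# Cohomology with supports on a topological space: basics (helper2)

* `homZqEquiv h F : (ℤ_V/ℤ_W ⟶ F) ≃+ Γ_{V∖W}(V, F)`, natural in `F`;
* `exists_lift_zq`: `Hom(ℤ_V/ℤ_W, -)` is right exact on short exact sequences starting with a flasque;
* `flasque_ext_zq_eq_zero`: `H^{n+1}_{V∖W}(V, F) = 0` for `F` flasque.
-/

set_option autoImplicit false
universe u

namespace Groth.Agent.Lib.Helper2.LocCohZLib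

open CategoryTheory CategoryTheory.Limits Opposite TopologicalSpace Abelian

variable {X : TopCat.{u}}

/-- morphisms `ℤ_V/ℤ_W ⟶ F` are the sections over `V` vanishing on `W`. -/
noncomputable def homZqEquiv {W V : Opens X} (h : W ≤ V) (F : CohTop.Ab X) :
    (LocCohZ.zq h ⟶ F) ≃+ LocCohZ.sectZ F h :=
  Ext.addEquiv₀.symm.trans (LocCohZ.sect0Equiv F h)

lemma homZqEquiv_apply_coe {W V : Opens X} (h : W ≤ V) (F : CohTop.Ab X)
    (x : LocCohZ.zq h ⟶ F) :
    ((homZqEquiv h F x : LocCohZ.sectZ F h) : F.obj.obj (op V)) =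
      CohFree.evalGen (Opens.grothendieckTopology X) V F
        (cokernel.π (CohCx.freeSheafMap (Opens.grothendieckTopology X) (homOfLE h)) ≫ x) := by
  change CohFree.evalGen _ V F (cokernel.π _ ≫ Ext.addEquiv₀ (Ext.addEquiv₀.symm x)) = _
  rw [AddEquiv.apply_symm_apply]

lemma homZqEquiv_naturality {W V : Opens X} (h : W ≤ V) {F G : CohTop.Ab X} (φ : F ⟶ G)
    (x : LocCohZ.zq h ⟶ F) :
    ((homZqEquiv h G (x ≫ φ) : LocCohZ.sectZ G h) : G.obj.obj (op V)) =
      (φ.hom.app (op V)).hom (homZqEquiv h F x : LocCohZ.sectZ F h).1 := by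
  rw [homZqEquiv_apply_coe, homZqEquiv_apply_coe, ← Category.assoc]
  rfl

/-- `Hom(ℤ_V/ℤ_W, -)` is right exact on short exact sequences whose first term is flasque. -/
lemma exists_lift_zq {W V : Opens X} (h : W ≤ V) (S : ShortComplex (CohTop.Ab X))
    (hS : S.ShortExact) [TopCat.Sheaf.IsFlasque S.X₁] (φ : LocCohZ.zq h ⟶ S.X₃) :
    ∃ ψ : LocCohZ.zq h ⟶ S.X₂, ψ ≫ S.g = φ := by
  obtain ⟨s, hs⟩ : ∃ s : LocCohZ.sectZ S.X₃ h, s = homZqEquiv h S.X₃ φ := ⟨_, rfl⟩
  have hepi : Epi (S.g.1.app (op V)) := TopCat.Sheaf.IsFlasque.epi_of_shortExact hS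
  rw [AddCommGrpCat.epi_iff_surjective] at hepi
  obtain ⟨t, ht⟩ := hepi s.1
  have hnat : ∀ y : S.X₂.obj.obj (op V), (S.g.hom.app (op W)).hom ((S.X₂.obj.map (homOfLE h).op).hom y) =
      (S.X₃.obj.map (homOfLE h).op).hom ((S.g.hom.app (op V)).hom y) := fun y =>
    ConcreteCategory.congr_hom (S.g.hom.naturality (homOfLE h).op) y
  have hnatf : ∀ y : S.X₁.obj.obj (op V), (S.f.hom.app (op W)).hom ((S.X₁.obj.map (homOfLE h).op).hom y) =
      (S.X₂.obj.map (homOfLE h).op).hom ((S.f.hom.app (op V)).hom y) := fun y =>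
    ConcreteCategory.congr_hom (S.f.hom.naturality (homOfLE h).op) y
  have h0 : (S.g.hom.app (op W)).hom ((S.X₂.obj.map (homOfLE h).op).hom t) = 0 := by
    rw [hnat]
    have : (S.g.hom.app (op V)).hom t = s.1 := ht
    rw [this]
    exact s.2
  obtain ⟨r', hr'⟩ := TopCat.Sheaf.sections_exact_of_left_exact hS.1 hS.2 _ h0
  have hfl : TopCat.Sheaf.IsFlasque S.X₁ := inferInstance
  obtain ⟨r, hr⟩ := (AddCommGrpCat.epi_iff_surjective (S.X₁.obj.map (homOfLE h).op)).mp
    (TopCat.Presheaf.IsFlasque.epi (homOfLE h).op) r'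
  have hfg : ∀ y : S.X₁.obj.obj (op V), (S.g.hom.app (op V)).hom ((S.f.hom.app (op V)).hom y) = 0 := by
    intro y
    have : S.f.hom.app (op V) ≫ S.g.hom.app (op V) = 0 := by
      rw [← NatTrans.comp_app, ← ObjectProperty.FullSubcategory.comp_hom, S.zero]
      rfl
    exact ConcreteCategory.congr_hom this y
  have ht'W : (S.X₂.obj.map (homOfLE h).op).hom (t - (S.f.hom.app (op V)).hom r) = 0 := by
    rw [map_sub, ← hnatf, hr]
    have : (S.f.hom.app (op W)).hom r' = (S.X₂.obj.map (homOfLE h).op).hom t := hr'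
    rw [this, sub_self]
  have ht'g : (S.g.hom.app (op V)).hom (t - (S.f.hom.app (op V)).hom r) = s.1 := by
    rw [map_sub, hfg, sub_zero]
    exact ht
  refine ⟨(homZqEquiv h S.X₂).symm ⟨_, ht'W⟩, ?_⟩
  apply (homZqEquiv h S.X₃).injective
  apply Subtype.ext
  rw [homZqEquiv_naturality, AddEquiv.apply_symm_apply, ← hs]
  exact ht'g

/-- **Flasque sheaves are acyclic for cohomology with supports.** -/
theorem flasque_ext_zq_eq_zero {W V : Opens X} (h : W ≤ V) (n : ℕ) (F : CohTop.Ab X)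
    (hF : TopCat.Sheaf.IsFlasque F) (x : Ext (LocCohZ.zq h) F (n + 1)) : x = 0 :=
  Groth.Agent.Lib.Helper1.FlasqueAcyclic.ext_eq_zero_of_class (LocCohZ.zq h)
    (fun G : CohTop.Ab X => TopCat.Sheaf.IsFlasque G)
    (fun I _ => Groth.Agent.Lib.Helper1.FlasqueAcyclic.isFlasque_of_injective I)
    (fun S hS h1 h2 => by
      haveI := h1
      haveI := h2
      exact TopCat.Sheaf.IsFlasque.of_shortExact_of_isFlasque₁₂ hS)
    (fun S hS h1 φ => by
      haveI := h1
      exact exists_lift_zq h S hS φ) n F hF x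

theorem flasque_HZ_subsingleton {W V : Opens X} (h : W ≤ V) (n : ℕ) (F : CohTop.Ab X)
    [hF : TopCat.Sheaf.IsFlasque F] : Subsingleton (LocCohZ.HZ F (n + 1) h) :=
  subsingleton_of_forall_eq 0 fun x => flasque_ext_zq_eq_zero h n F hF x

end Groth.Agent.Lib.Helper2.LocCohZLib
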