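import Groth.Agent.Lib.Helper2.LocCohZ.OpenSES
import Groth.Agent.Lib.Helper2.ExtUnitH

/-!
# Excision for cohomology with supports on a topological space (helper2)
-/

set_option autoImplicit false
universe u

noncomputable section

namespace Groth.Agent.Lib.Helper2.LocCohZLib

open CategoryTheory CategoryTheory.Limits Opposite TopologicalSpace Abelian
open Groth.Agent.Lib.Helper3.OpenEmbSheaf Groth.Agent.Lib.Helper13.DeltaFun

variable {X : TopCat.{u}} {W V : Opens X} (h : W ≤ V)

/-- the trace of `W` on the subspace `V`. -/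
abbrev Wp (W V : Opens X) : Opens (TopCat.of V) := (Opens.map (CohCx.incl V)).obj W

lemma Fj_top (V : Opens X) : (Fj V).obj ⊤ = V := by
  apply Opens.ext
  ext x
  constructor
  · rintro ⟨z, -, rfl⟩
    exact z.2
  · intro hx
    exact ⟨⟨x, hx⟩, trivial, rfl⟩

include h in
lemma Fj_Wp : (Fj V).obj (Wp W V) = W := Fj_map V h

lemma map_map_eq (F : CohTop.Ab X) {A B B' D : Opens X} (a : B ≤ A) (b : D ≤ B) (a' : B' ≤ A)
    (b' : D ≤ B') (s : F.obj.obj (op A)) :
    (F.obj.map (homOfLE b).op).hom ((F.obj.map (homOfLE a).op).hom s) =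
      (F.obj.map (homOfLE b').op).hom ((F.obj.map (homOfLE a').op).hom s) := by
  have e : (homOfLE a).op ≫ (homOfLE b).op = (homOfLE a').op ≫ (homOfLE b').op :=
    Subsingleton.elim _ _
  have := congrArg (fun t => (F.obj.map t).hom s) e
  simpa only [F.obj.map_comp, AddCommGrpCat.hom_comp, AddMonoidHom.coe_comp,
    Function.comp_apply] using this

/-- sections of `F` over `V` vanishing on `W`, as sections of `F|_V`. -/
def transSect (F : CohTop.Ab X) :
    LocCohZ.sectZ F h →+ LocCohZ.sectZ (CohTop.restr F V) (le_top : Wp W V ≤ ⊤) where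
  toFun s := ⟨(F.obj.map (homOfLE (Fj_top V).le).op).hom s.1, by
    rw [AddMonoidHom.mem_ker]
    change (F.obj.map (homOfLE ((Fj V).map (homOfLE (le_top : Wp W V ≤ ⊤))).le).op).hom
      ((F.obj.map (homOfLE (Fj_top V).le).op).hom s.1) = 0
    rw [map_map_eq F (Fj_top V).le _ h (Fj_Wp h).le s.1]
    have hs : (F.obj.map (homOfLE h).op).hom s.1 = 0 := s.2
    rw [hs, map_zero]⟩
  map_zero' := by
    apply Subtype.ext
    exact map_zero _
  map_add' s t := by
    apply Subtype.ext
    exact map_add _ _ _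

/-- the inverse transport. -/
def transSectInv (F : CohTop.Ab X) :
    LocCohZ.sectZ (CohTop.restr F V) (le_top : Wp W V ≤ ⊤) →+ LocCohZ.sectZ F h where
  toFun s := ⟨(F.obj.map (homOfLE (Fj_top V).ge).op).hom s.1, by
    rw [AddMonoidHom.mem_ker]
    have hs : (F.obj.map (homOfLE ((Fj V).map (homOfLE (le_top : Wp W V ≤ ⊤))).le).op).hom s.1 = 0 :=
      s.2
    rw [map_map_eq F (Fj_top V).ge h ((Fj V).map (homOfLE (le_top : Wp W V ≤ ⊤))).le
      (Fj_Wp h).ge s.1, hs, map_zero]⟩
  map_zero' := by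
    apply Subtype.ext
    exact map_zero _
  map_add' s t := by
    apply Subtype.ext
    exact map_add _ _ _

lemma map_map_id (F : CohTop.Ab X) {A B : Opens X} (a : B ≤ A) (b : A ≤ B)
    (s : F.obj.obj (op A)) :
    (F.obj.map (homOfLE b).op).hom ((F.obj.map (homOfLE a).op).hom s) = s := by
  have e : (homOfLE a).op ≫ (homOfLE b).op = 𝟙 _ := Subsingleton.elim _ _
  have := congrArg (fun t => (F.obj.map t).hom s) e
  simpa only [F.obj.map_comp, F.obj.map_id, AddCommGrpCat.hom_comp, AddMonoidHom.coe_comp,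
    Function.comp_apply, AddCommGrpCat.hom_id, AddMonoidHom.id_apply] using this

lemma transSectInv_transSect (F : CohTop.Ab X) (s : LocCohZ.sectZ F h) :
    transSectInv h F (transSect h F s) = s := by
  apply Subtype.ext
  exact map_map_id F _ _ s.1

lemma transSect_transSectInv (F : CohTop.Ab X)
    (s : LocCohZ.sectZ (CohTop.restr F V) (le_top : Wp W V ≤ ⊤)) :
    transSect h F (transSectInv h F s) = s := by
  apply Subtype.ext
  exact map_map_id F _ _ s.1

lemma transSect_bijective (F : CohTop.Ab X) : Function.Bijective (transSect h F) :=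
  ⟨Function.LeftInverse.injective (transSectInv_transSect h F),
    Function.RightInverse.surjective (transSect_transSectInv h F)⟩

lemma sect0Equiv_comp_mk₀ {Y : TopCat.{u}} {W' V' : Opens Y} (h' : W' ≤ V') {F G : CohTop.Ab Y}
    (φ : F ⟶ G) (x : Ext (LocCohZ.zq h') F 0) :
    (LocCohZ.sect0Equiv G h' (x.comp (Ext.mk₀ φ) (add_zero 0))).1 =
      (φ.hom.app (op V')).hom (LocCohZ.sect0Equiv F h' x).1 := by
  obtain ⟨x', rfl⟩ := (Ext.mk₀_bijective _ _).2 x
  rw [Ext.mk₀_comp_mk₀]
  exact homZqEquiv_naturality h' φ x'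

lemma transSect_natural {F G : CohTop.Ab X} (φ : F ⟶ G) (s : LocCohZ.sectZ F h)
    (t : LocCohZ.sectZ G h) (hst : t.1 = (φ.hom.app (op V)).hom s.1) :
    (transSect h G t).1 =
      (((CohTop.restrFunctor V).map φ).hom.app (op ⊤)).hom (transSect h F s).1 := by
  change (G.obj.map (homOfLE (Fj_top V).le).op).hom t.1 =
    (φ.hom.app (op ((Fj V).obj ⊤))).hom ((F.obj.map (homOfLE (Fj_top V).le).op).hom s.1)
  rw [hst]
  exact (congrArg (fun a => a.hom s.1) (φ.hom.naturality (homOfLE (Fj_top V).le).op)).symm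

/-- the comparison in degree `0`. -/
def exc0 (F : CohTop.Ab X) :
    Ext (LocCohZ.zq h) F 0 →+ Ext (LocCohZ.zq (le_top : Wp W V ≤ ⊤)) (CohTop.restr F V) 0 :=
  ((LocCohZ.sect0Equiv (CohTop.restr F V) (le_top : Wp W V ≤ ⊤)).symm.toAddMonoidHom.comp
    (transSect h F)).comp (LocCohZ.sect0Equiv F h).toAddMonoidHom

lemma exc0_bijective (F : CohTop.Ab X) : Function.Bijective (exc0 h F) :=
  ((LocCohZ.sect0Equiv (CohTop.restr F V) (le_top : Wp W V ≤ ⊤)).symm.bijective.comp
    (transSect_bijective h F)).comp (LocCohZ.sect0Equiv F h).bijective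

lemma sect0Equiv_exc0 (F : CohTop.Ab X) (x : Ext (LocCohZ.zq h) F 0) :
    LocCohZ.sect0Equiv (CohTop.restr F V) (le_top : Wp W V ≤ ⊤) (exc0 h F x) =
      transSect h F (LocCohZ.sect0Equiv F h x) :=
  AddEquiv.apply_symm_apply _ _

lemma exc0_natural {F G : CohTop.Ab X} (φ : F ⟶ G) (x : Ext (LocCohZ.zq h) F 0) :
    exc0 h G (x.comp (Ext.mk₀ φ) (add_zero 0)) =
      (exc0 h F x).comp (Ext.mk₀ ((CohTop.restrFunctor V).map φ)) (add_zero 0) := by
  apply (LocCohZ.sect0Equiv (CohTop.restr G V) (le_top : Wp W V ≤ ⊤)).injective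
  apply Subtype.ext
  rw [sect0Equiv_exc0, sect0Equiv_comp_mk₀, sect0Equiv_exc0]
  exact transSect_natural h φ _ _ (sect0Equiv_comp_mk₀ h φ x)

instance restrFunctor_preservesFiniteLimits (V : Opens X) :
    PreservesFiniteLimits (CohTop.restrFunctor V) := by
  haveI : PreservesLimitsOfSize.{0, 0} (CohTop.restrFunctor V) :=
    (adjShriek V).rightAdjoint_preservesLimits
  exact PreservesLimitsOfSize.preservesFiniteLimits _

instance restrFunctor_preservesFiniteColimits (V : Opens X) :
    PreservesFiniteColimits (CohTop.restrFunctor V) := by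
  haveI : PreservesColimitsOfSize.{0, 0} (CohTop.restrFunctor V) :=
    (adjRes V).leftAdjoint_preservesColimits
  exact PreservesColimitsOfSize.preservesFiniteColimits _

/-- the δ-functor `F ↦ H^n_{V∖W}(V, F)` on `X`. -/
abbrev TX : DFun.{u} (CohTop.Ab X) := ofExt (𝟭 (CohTop.Ab X)) (LocCohZ.zq h)

/-- the δ-functor `F ↦ H^n_{V∖W}(V, F|_V)` on the subspace `V`. -/
abbrev SV (W V : Opens X) : DFun.{u} (CohTop.Ab X) :=
  ofExt (CohTop.restrFunctor V) (LocCohZ.zq (le_top : Wp W V ≤ ⊤))

lemma effaceable_TX : Effaceable (TX h) := by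
  intro I _ n x
  exact Ext.eq_zero_of_injective x

lemma effaceable_SV (W V : Opens X) : Effaceable (SV W V) := by
  intro I _ n x
  haveI : Injective ((CohTop.restrFunctor V).obj I) := injective_sheafRestrict V I
  exact Ext.eq_zero_of_injective x

/-- **Excision**: a morphism of δ-functors `H^n_{V∖W}(X, -) ⟶ H^n_{V∖W}(V, (-)|_V)`, bijective in
every degree. -/
theorem exists_excision :
    ∃ e : ∀ (F : CohTop.Ab X) (n : ℕ), Ext (LocCohZ.zq h) F n →+
        Ext (LocCohZ.zq (le_top : Wp W V ≤ ⊤)) (CohTop.restr F V) n,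
      IsHom (TX h) (SV W V) e ∧ (∀ F, e F 0 = exc0 h F) ∧ ∀ F n, Function.Bijective (e F n) :=
  Groth.Agent.Lib.Helper2.ExtUnitH.bijective_of_zero (effaceable_TX h) (effaceable_SV W V)
    (exc0 h) (fun φ x => exc0_natural h φ x) (exc0_bijective h)

end Groth.Agent.Lib.Helper2.LocCohZLib
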