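import Groth.Agent.Lib.Helper2.LocCohZ.SectSupp
import Groth.Agent.Lib.Helper2.GSS.HomFunctor

/-!
# Global sections of `Γ_Z(F)` (helper2)

`Hom(ℤ_X, Γ_Z(F)) ≅ Hom(ℤ_X/ℤ_U, F)`, naturally in `F`.
-/

set_option autoImplicit false
universe u

namespace Groth.Agent.Lib.Helper2.LocCohZLib

open CategoryTheory CategoryTheory.Limits Opposite TopologicalSpace Abelian
open Groth.Agent.Lib.Helper2.GSS

variable {X : TopCat.{u}} (U : Opens X)

/-- the section of `F` over `⊤` underlying a morphism `ℤ_X ⟶ Γ_Z(F)`. -/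
noncomputable def tauSec (F : CohTop.Ab X) :
    (CohCx.freeSheaf (Opens.grothendieckTopology X) (⊤ : Opens X) ⟶ CohCx.sectSupp U F) →+
      F.obj.obj (op (⊤ : Opens X)) :=
  ((sectSuppι U F).hom.app (op ⊤)).hom.comp
    (CohFree.evalGen (Opens.grothendieckTopology X) ⊤ (CohCx.sectSupp U F))

lemma tauSec_apply (F : CohTop.Ab X)
    (y : CohCx.freeSheaf (Opens.grothendieckTopology X) (⊤ : Opens X) ⟶ CohCx.sectSupp U F) :
    tauSec U F y = ((sectSuppι U F).hom.app (op ⊤)).hom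
      (CohFree.evalGen (Opens.grothendieckTopology X) ⊤ (CohCx.sectSupp U F) y) := rfl

lemma tauSec_injective (F : CohTop.Ab X) : Function.Injective (tauSec U F) := by
  intro y y' h
  have h1 := sectSuppι_app_injective U F ⊤ h
  exact (CohFree.homEquivSect (Opens.grothendieckTopology X) ⊤ (CohCx.sectSupp U F)).injective h1

lemma tauSec_mem (F : CohTop.Ab X)
    (y : CohCx.freeSheaf (Opens.grothendieckTopology X) (⊤ : Opens X) ⟶ CohCx.sectSupp U F) :
    tauSec U F y ∈ LocCohZ.sectZ F (le_top : U ≤ ⊤) := by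
  rw [AddMonoidHom.mem_ker]
  exact (map_eq_zero_iff_of_eq F (top_inf_eq U) _ _ _).1 (sectSuppι_app_mem U F ⊤ _)

lemma exists_tauSec_eq (F : CohTop.Ab X) (s : LocCohZ.sectZ F (le_top : U ≤ ⊤)) :
    ∃ y, tauSec U F y = s.1 := by
  obtain ⟨t, ht⟩ := exists_sectSupp_of_mem U F ⊤ s.1
    ((map_eq_zero_iff_of_eq F (top_inf_eq U) _ _ _).2 s.2)
  refine ⟨CohFree.ofSect (Opens.grothendieckTopology X) ⊤ (CohCx.sectSupp U F) t, ?_⟩
  rw [tauSec_apply, CohFree.evalGen_ofSect]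
  exact ht

/-- `Γ_Z` on morphisms, with explicit types. -/
noncomputable def sectSuppMap {F G : CohTop.Ab X} (φ : F ⟶ G) :
    CohCx.sectSupp U F ⟶ CohCx.sectSupp U G := (LocCohZ.sectSuppF U).map φ

lemma sectSuppMap_ι {F G : CohTop.Ab X} (φ : F ⟶ G) :
    sectSuppMap U φ ≫ sectSuppι U G = sectSuppι U F ≫ φ := by
  unfold sectSuppMap LocCohZ.sectSuppF
  exact kernel.lift_ι _ _ _

lemma tauSec_naturality {F G : CohTop.Ab X} (φ : F ⟶ G)
    (y : CohCx.freeSheaf (Opens.grothendieckTopology X) (⊤ : Opens X) ⟶ CohCx.sectSupp U F) :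
    tauSec U G (y ≫ sectSuppMap U φ) = (φ.hom.app (op ⊤)).hom (tauSec U F y) := by
  have h := congrArg (fun ψ : CohCx.sectSupp U F ⟶ G => (ψ.hom.app (op (⊤ : Opens X))).hom
    (CohFree.evalGen (Opens.grothendieckTopology X) ⊤ (CohCx.sectSupp U F) y)) (sectSuppMap_ι U φ)
  exact h

/-- `Hom(ℤ_X, Γ_Z F) ≃+ Γ_Z(X, F)`. -/
noncomputable def homSectSuppEquiv (F : CohTop.Ab X) :
    (CohCx.freeSheaf (Opens.grothendieckTopology X) (⊤ : Opens X) ⟶ CohCx.sectSupp U F) ≃+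
      LocCohZ.sectZ F (le_top : U ≤ ⊤) :=
  AddEquiv.ofBijective
    ((tauSec U F).codRestrict (LocCohZ.sectZ F (le_top : U ≤ ⊤)) (tauSec_mem U F))
    ⟨fun y y' h => tauSec_injective U F (congrArg Subtype.val h),
      fun s => by
        obtain ⟨y, hy⟩ := exists_tauSec_eq U F s
        exact ⟨y, Subtype.ext hy⟩⟩

lemma homSectSuppEquiv_apply_coe (F : CohTop.Ab X)
    (y : CohCx.freeSheaf (Opens.grothendieckTopology X) (⊤ : Opens X) ⟶ CohCx.sectSupp U F) :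
    (homSectSuppEquiv U F y).1 = tauSec U F y := rfl

/-- `Hom(ℤ_X/ℤ_U, F) ≃+ Hom(ℤ_X, Γ_Z F)`. -/
noncomputable def homZqSectSuppEquiv (F : CohTop.Ab X) :
    (LocCohZ.zq (le_top : U ≤ ⊤) ⟶ F) ≃+
      (CohCx.freeSheaf (Opens.grothendieckTopology X) (⊤ : Opens X) ⟶ CohCx.sectSupp U F) :=
  (homZqEquiv (le_top : U ≤ ⊤) F).trans (homSectSuppEquiv U F).symm

lemma tauSec_homZqSectSuppEquiv (F : CohTop.Ab X) (x : LocCohZ.zq (le_top : U ≤ ⊤) ⟶ F) :
    tauSec U F (homZqSectSuppEquiv U F x) = (homZqEquiv (le_top : U ≤ ⊤) F x).1 := by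
  rw [← homSectSuppEquiv_apply_coe]
  exact congrArg Subtype.val ((homSectSuppEquiv U F).apply_symm_apply _)

/-- `Hom(ℤ_X/ℤ_U, -) ≅ Hom(ℤ_X, Γ_Z -)`. -/
noncomputable def homFZqSectSuppIso :
    homF (LocCohZ.zq (le_top : U ≤ ⊤)) ≅
      LocCohZ.sectSuppF U ⋙
        homF (CohCx.freeSheaf (Opens.grothendieckTopology X) (⊤ : Opens X)) :=
  NatIso.ofComponents (fun F => AddEquiv.toAddCommGrpIso (homZqSectSuppEquiv U F)) (by
    intro F G φ
    ext x
    change homZqSectSuppEquiv U G (x ≫ φ) = homZqSectSuppEquiv U F x ≫ sectSuppMap U φ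
    apply tauSec_injective U G
    rw [tauSec_naturality, tauSec_homZqSectSuppEquiv, tauSec_homZqSectSuppEquiv,
      homZqEquiv_naturality])

end Groth.Agent.Lib.Helper2.LocCohZLib
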