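import Groth.Agent.Lib.Helper2.LocCohZ.Global
import Groth.Agent.Lib.Helper2.GSS.AcyclicClass

/-!
# `Γ_Z` is left exact, and exact on flasque sheaves (helper2)
-/

set_option autoImplicit false
universe u

namespace Groth.Agent.Lib.Helper2.LocCohZLib

open CategoryTheory CategoryTheory.Limits Opposite TopologicalSpace Abelian
open Groth.Agent.Lib.Helper2.GSS

variable {X : TopCat.{u}} (U : Opens X)

lemma epi_of_app_surjective {F G : CohTop.Ab X} (φ : F ⟶ G)
    (h : ∀ V : Opens X, Function.Surjective (φ.hom.app (op V)).hom) : Epi φ := by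
  rw [← Sheaf.isLocallySurjective_iff_epi']
  exact Presheaf.isLocallySurjective_of_surjective _ _ (fun V => h V.unop)

lemma sectSuppMap_app_ι {F G : CohTop.Ab X} (φ : F ⟶ G) (V : Opens X)
    (t : (CohCx.sectSupp U F).obj.obj (op V)) :
    ((sectSuppι U G).hom.app (op V)).hom (((sectSuppMap U φ).hom.app (op V)).hom t) =
      (φ.hom.app (op V)).hom (((sectSuppι U F).hom.app (op V)).hom t) :=
  congrArg (fun ψ : CohCx.sectSupp U F ⟶ G => (ψ.hom.app (op V)).hom t) (sectSuppMap_ι U φ)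

/-- `Γ_Z` is exact on short exact sequences starting with a flasque sheaf. -/
theorem epi_sectSuppMap (S : ShortComplex (CohTop.Ab X)) (hS : S.ShortExact)
    [TopCat.Sheaf.IsFlasque S.X₁] : Epi (sectSuppMap U S.g) := by
  apply epi_of_app_surjective
  intro V r
  have hs := sectSuppι_app_mem U S.X₃ V r
  obtain ⟨ψ, hψ⟩ := exists_lift_zq (inf_le_left : V ⊓ U ≤ V) S hS
    ((homZqEquiv (inf_le_left : V ⊓ U ≤ V) S.X₃).symm ⟨_, hs⟩)
  have ht := (homZqEquiv (inf_le_left : V ⊓ U ≤ V) S.X₂ ψ).2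
  rw [AddMonoidHom.mem_ker] at ht
  obtain ⟨r', hr'⟩ := exists_sectSupp_of_mem U S.X₂ V _ ht
  refine ⟨r', ?_⟩
  apply sectSuppι_app_injective U S.X₃ V
  rw [sectSuppMap_app_ι, hr', ← homZqEquiv_naturality, hψ, AddEquiv.apply_symm_apply]

lemma hom_eq_zero_of_app {F G : CohTop.Ab X} (φ : F ⟶ G)
    (h : ∀ (V : Opens X) (w : F.obj.obj (op V)), (φ.hom.app (op V)).hom w = 0) : φ = 0 := by
  apply Sheaf.hom_ext
  apply NatTrans.ext
  funext V
  apply AddCommGrpCat.hom_ext
  ext w
  exact h V.unop w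

instance : (LocCohZ.sectSuppF U).PreservesZeroMorphisms :=
  inferInstance

lemma exists_lift_sectSupp (S : ShortComplex (CohTop.Ab X)) (hS : S.Exact) [Mono S.f]
    {W : CohTop.Ab X} (x : W ⟶ CohCx.sectSupp U S.X₂) (hx : x ≫ sectSuppMap U S.g = 0) :
    ∃ l : W ⟶ CohCx.sectSupp U S.X₁, l ≫ sectSuppMap U S.f = x := by
  have h1 : (x ≫ sectSuppι U S.X₂) ≫ S.g = 0 := by
    rw [Category.assoc, ← sectSuppMap_ι, ← Category.assoc, hx, zero_comp]
  have h0 : hS.lift (x ≫ sectSuppι U S.X₂) h1 ≫ (adjPull U).unit.app S.X₁ = 0 := by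
    apply hom_eq_zero_of_app
    intro V w
    change (((adjPull U).unit.app S.X₁).hom.app (op V)).hom
      (((hS.lift (x ≫ sectSuppι U S.X₂) h1).hom.app (op V)).hom w) = 0
    rw [unit_app_eq_zero_iff]
    apply app_injective_of_mono S.f (V ⊓ U)
    rw [map_zero]
    have hn := ConcreteCategory.congr_hom (S.f.hom.naturality (homOfLE (inf_le_left : V ⊓ U ≤ V)).op)
      (((hS.lift (x ≫ sectSuppι U S.X₂) h1).hom.app (op V)).hom w)
    refine Eq.trans (show _ = (S.X₂.obj.map (homOfLE (inf_le_left : V ⊓ U ≤ V)).op).hom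
      ((S.f.hom.app (op V)).hom
        (((hS.lift (x ≫ sectSuppι U S.X₂) h1).hom.app (op V)).hom w)) from hn) ?_
    have h2 : (S.f.hom.app (op V)).hom (((hS.lift (x ≫ sectSuppι U S.X₂) h1).hom.app (op V)).hom w) =
        ((sectSuppι U S.X₂).hom.app (op V)).hom ((x.hom.app (op V)).hom w) :=
      congrArg (fun ψ : W ⟶ S.X₂ => (ψ.hom.app (op V)).hom w) (hS.lift_f _ h1)
    rw [h2]
    exact sectSuppι_app_mem U S.X₂ V _
  refine ⟨kernel.lift _ (hS.lift (x ≫ sectSuppι U S.X₂) h1) h0, ?_⟩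
  rw [← cancel_mono (sectSuppι U S.X₂), Category.assoc, sectSuppMap_ι, ← Category.assoc,
    kernel.lift_ι, hS.lift_f]

instance preservesFiniteLimits_sectSuppF : PreservesFiniteLimits (LocCohZ.sectSuppF U) := by
  refine ((Functor.preservesFiniteLimits_tfae (LocCohZ.sectSuppF U)).out 1 3 rfl rfl).1 ?_
  rintro S ⟨hS, hf⟩
  have hmono : Mono (sectSuppMap U S.f) := by
    have : Mono (sectSuppMap U S.f ≫ sectSuppι U S.X₂) := by
      rw [sectSuppMap_ι]
      infer_instance
    exact mono_of_mono _ (sectSuppι U S.X₂)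
  refine ⟨?_, hmono⟩
  refine ShortComplex.exact_of_f_is_kernel _ ?_
  refine KernelFork.IsLimit.ofι _ _
    (fun {W} x hx => Classical.choose (exists_lift_sectSupp U S hS x hx))
    (fun {W} x hx => Classical.choose_spec (exists_lift_sectSupp U S hS x hx))
    (fun {W} x hx m hm => ?_)
  have hm' : m ≫ sectSuppMap U S.f = x := hm
  refine (cancel_mono (sectSuppMap U S.f)).1 ?_
  exact hm'.trans (Classical.choose_spec (exists_lift_sectSupp U S hS x hx)).symm

/-- **The local cohomology sheaves of a flasque sheaf vanish.** -/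
theorem isZero_HZsh_of_isFlasque (F : CohTop.Ab X) [hF : TopCat.Sheaf.IsFlasque F] (n : ℕ) :
    IsZero ((LocCohZ.HZsh U (n + 1)).obj F) :=
  isZero_rightDerived_of_class (LocCohZ.sectSuppF U) (fun G : CohTop.Ab X => TopCat.Sheaf.IsFlasque G)
    (fun I _ => Groth.Agent.Lib.Helper1.FlasqueAcyclic.isFlasque_of_injective I)
    (fun S hS h1 h2 => by
      haveI := h1
      haveI := h2
      exact TopCat.Sheaf.IsFlasque.of_shortExact_of_isFlasque₁₂ hS)
    (fun S hS h1 => by
      haveI := h1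
      exact epi_sectSuppMap U S hS) n F hF

end Groth.Agent.Lib.Helper2.LocCohZLib
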