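import Groth.Agent.Lib.Helper2.LocCohZ.Basic
import Groth.Agent.Lib.Helper2.GSS.HomFunctor

/-!
# Cohomology with supports and direct images (helper2)

`Hom(ℤ_Y/ℤ_V, f_* F) ≅ Hom(ℤ_X/ℤ_{f⁻¹V}, F)`, naturally in `F`.
-/

set_option autoImplicit false
universe u

namespace Groth.Agent.Lib.Helper2.LocCohZLib

open CategoryTheory CategoryTheory.Limits Opposite TopologicalSpace Abelian
open Groth.Agent.Lib.Helper2.GSS

variable {X Y : TopCat.{u}} (f : X ⟶ Y) (V : Opens Y)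

/-- `Hom(ℤ_X/ℤ_{f⁻¹V}, F) ≃+ Hom(ℤ_Y/ℤ_V, f_* F)`. -/
noncomputable def homZqPushEquiv (F : CohTop.Ab X) :
    (LocCohZ.zq (le_top : (Opens.map f).obj V ≤ ⊤) ⟶ F) ≃+
      (LocCohZ.zq (le_top : V ≤ ⊤) ⟶ (CohTop.push f).obj F) :=
  (homZqEquiv (le_top : (Opens.map f).obj V ≤ ⊤) F).trans
    (homZqEquiv (le_top : V ≤ ⊤) ((CohTop.push f).obj F)).symm

lemma homZqEquiv_homZqPushEquiv (F : CohTop.Ab X)
    (x : LocCohZ.zq (le_top : (Opens.map f).obj V ≤ ⊤) ⟶ F) :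
    homZqEquiv (le_top : V ≤ ⊤) ((CohTop.push f).obj F) (homZqPushEquiv f V F x) =
      homZqEquiv (le_top : (Opens.map f).obj V ≤ ⊤) F x :=
  AddEquiv.apply_symm_apply _ _

/-- `Hom(ℤ_X/ℤ_{f⁻¹V}, -) ≅ Hom(ℤ_Y/ℤ_V, f_* -)`. -/
noncomputable def homFZqPushIso :
    homF (LocCohZ.zq (le_top : (Opens.map f).obj V ≤ ⊤)) ≅
      CohTop.push f ⋙ homF (LocCohZ.zq (le_top : V ≤ ⊤)) :=
  NatIso.ofComponents (fun F => AddEquiv.toAddCommGrpIso (homZqPushEquiv f V F)) (by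
    intro F G φ
    ext x
    change homZqPushEquiv f V G (x ≫ φ) = homZqPushEquiv f V F x ≫ (CohTop.push f).map φ
    apply (homZqEquiv (le_top : V ≤ ⊤) ((CohTop.push f).obj G)).injective
    apply Subtype.ext
    rw [homZqEquiv_naturality, homZqEquiv_homZqPushEquiv, homZqEquiv_homZqPushEquiv,
      homZqEquiv_naturality]
    rfl)

end Groth.Agent.Lib.Helper2.LocCohZLib
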