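import Groth.Agent.Lib.Helper2.LocCohZ.Basic
import Groth.Agent.Lib.Helper3.OpenEmbSheaf

/-!
# The sheaf of sections with support in a closed subset (helper2)

Sections of `Γ_Z(F) = ker (F ⟶ j_* j⁻¹ F)` over `V` are the sections of `F` over `V` vanishing on `V ⊓ U`.
-/

set_option autoImplicit false
universe u

namespace Groth.Agent.Lib.Helper2.LocCohZLib

open CategoryTheory CategoryTheory.Limits Opposite TopologicalSpace Abelian
open Groth.Agent.Lib.Helper3.OpenEmbSheaf

variable {X : TopCat.{u}} (U : Opens X)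

/-- pullback-pushforward adjunction along the inclusion of `U`. -/
noncomputable abbrev adjPull :
    CohTop.pull (CohCx.incl U) ⊣ CohTop.push (CohCx.incl U) :=
  TopCat.Sheaf.pullbackPushforwardAdjunction AddCommGrpCat.{u} (CohCx.incl U)

/-- restriction-pushforward adjunction along the inclusion of `U`. -/
noncomputable abbrev adjRes :
    U.sheafRestrict (C := AddCommGrpCat.{u}) ⊣ CohTop.push (CohCx.incl U) :=
  adjS U AddCommGrpCat.{u}

/-- pullback along an open inclusion is restriction. -/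
noncomputable def pullIsoRes : CohTop.pull (CohCx.incl U) ≅ U.sheafRestrict (C := AddCommGrpCat.{u}) :=
  Adjunction.leftAdjointUniq (adjPull U) (adjRes U)

lemma unit_comp (F : CohTop.Ab X) :
    (adjPull U).unit.app F ≫ (CohTop.push (CohCx.incl U)).map ((pullIsoRes U).hom.app F) =
      (adjRes U).unit.app F :=
  Adjunction.unit_leftAdjointUniq_hom_app _ _ _

lemma image_preimage_eq (V : Opens X) : (Fj U).obj ((Opens.map (j U)).obj V) = V ⊓ U := by
  apply Opens.ext
  ext x
  constructor
  · rintro ⟨z, hz, rfl⟩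
    exact ⟨hz, z.2⟩
  · rintro ⟨hV, hU⟩
    exact ⟨⟨x, hU⟩, hV, rfl⟩

lemma map_eq_zero_iff_of_eq (F : CohTop.Ab X) {V W W' : Opens X} (e : W = W') (a : W ≤ V)
    (b : W' ≤ V) (s : F.obj.obj (op V)) :
    (F.obj.map (homOfLE a).op).hom s = 0 ↔ (F.obj.map (homOfLE b).op).hom s = 0 := by
  subst e
  rfl

/-- the unit `F ⟶ j_* j⁻¹ F` kills a section over `V` iff the section vanishes on `V ⊓ U`. -/
lemma unit_app_eq_zero_iff (F : CohTop.Ab X) (V : Opens X) (s : F.obj.obj (op V)) :
    (((adjPull U).unit.app F).hom.app (op V)).hom s = 0 ↔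
      (F.obj.map (homOfLE (inf_le_left : V ⊓ U ≤ V)).op).hom s = 0 := by
  have h1 : (((adjRes U).unit.app F).hom.app (op V)).hom s =
      (((CohTop.push (CohCx.incl U)).map ((pullIsoRes U).hom.app F)).hom.app (op V)).hom
        ((((adjPull U).unit.app F).hom.app (op V)).hom s) := by
    rw [← unit_comp U F]
    rfl
  have hinj : Function.Injective
      (((CohTop.push (CohCx.incl U)).map ((pullIsoRes U).hom.app F)).hom.app (op V)).hom := by
    have : IsIso (((CohTop.push (CohCx.incl U)).map ((pullIsoRes U).hom.app F)).hom.app (op V)) :=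
      inferInstanceAs (IsIso (((sheafToPresheaf _ _ ⋙ (evaluation _ _).obj (op V)).map
        ((CohTop.push (CohCx.incl U)).map ((pullIsoRes U).hom.app F)))))
    exact ((AddCommGrpCat.mono_iff_injective _).1 inferInstance)
  have h2 : (((adjPull U).unit.app F).hom.app (op V)).hom s = 0 ↔
      (((adjRes U).unit.app F).hom.app (op V)).hom s = 0 := by
    rw [h1]
    constructor
    · intro h
      rw [h, map_zero]
    · intro h
      apply hinj
      rw [h, map_zero]
  rw [h2]
  exact map_eq_zero_iff_of_eq F (image_preimage_eq U V) _ _ s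

/-- the inclusion `Γ_Z(F) ⟶ F`. -/
noncomputable abbrev sectSuppι (F : CohTop.Ab X) : CohCx.sectSupp U F ⟶ F :=
  kernel.ι ((adjPull U).unit.app F)

lemma app_injective_of_mono {F G : CohTop.Ab X} (m : F ⟶ G) [Mono m] (V : Opens X) :
    Function.Injective (m.hom.app (op V)).hom := by
  have : Mono (m.hom.app (op V)) :=
    inferInstanceAs (Mono ((sheafToPresheaf _ _ ⋙ (evaluation _ _).obj (op V)).map m))
  exact (AddCommGrpCat.mono_iff_injective _).1 this

lemma sectSuppι_app_injective (F : CohTop.Ab X) (V : Opens X) :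
    Function.Injective ((sectSuppι U F).hom.app (op V)).hom :=
  app_injective_of_mono _ V

lemma sectSuppι_app_mem (F : CohTop.Ab X) (V : Opens X)
    (t : (CohCx.sectSupp U F).obj.obj (op V)) :
    (F.obj.map (homOfLE (inf_le_left : V ⊓ U ≤ V)).op).hom
      (((sectSuppι U F).hom.app (op V)).hom t) = 0 := by
  rw [← unit_app_eq_zero_iff]
  have h := kernel.condition ((adjPull U).unit.app F)
  have h2 : (sectSuppι U F).hom.app (op V) ≫ ((adjPull U).unit.app F).hom.app (op V) = 0 := by
    rw [← NatTrans.comp_app, ← ObjectProperty.FullSubcategory.comp_hom, h]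
    rfl
  exact ConcreteCategory.congr_hom h2 t

lemma exists_sectSupp_of_mem (F : CohTop.Ab X) (V : Opens X) (s : F.obj.obj (op V))
    (hs : (F.obj.map (homOfLE (inf_le_left : V ⊓ U ≤ V)).op).hom s = 0) :
    ∃ t : (CohCx.sectSupp U F).obj.obj (op V), ((sectSuppι U F).hom.app (op V)).hom t = s := by
  have hS : (ShortComplex.mk (sectSuppι U F) ((adjPull U).unit.app F)
      (kernel.condition _)).Exact :=
    ShortComplex.exact_of_f_is_kernel _ (kernelIsKernel _)
  exact TopCat.Sheaf.sections_exact_of_left_exact hS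
    (inferInstanceAs (Mono (sectSuppι U F))) s ((unit_app_eq_zero_iff U F V s).2 hs)

/-- gluing two sections. -/
lemma glue₂ (F : CohTop.Ab X) {A B V : Opens X} (iA : A ⟶ V) (iB : B ⟶ V) (hcover : V ≤ A ⊔ B)
    (a : F.obj.obj (op A)) (b : F.obj.obj (op B))
    (hab : (F.obj.map (homOfLE (inf_le_left : A ⊓ B ≤ A)).op).hom a =
      (F.obj.map (homOfLE (inf_le_right : A ⊓ B ≤ B)).op).hom b) :
    ∃ g : F.obj.obj (op V), (F.obj.map iA.op).hom g = a ∧ (F.obj.map iB.op).hom g = b := by
  let U' : Bool → Opens X := fun t => cond t A B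
  let sf : ∀ t : Bool, ToType (F.1.obj (op (U' t))) := fun t =>
    match t with
    | true => a
    | false => b
  let iUV : ∀ t : Bool, U' t ⟶ V := fun t =>
    match t with
    | true => iA
    | false => iB
  have hc : V ≤ iSup U' := by
    refine le_trans hcover (sup_le ?_ ?_)
    · exact le_iSup U' true
    · exact le_iSup U' false
  have hcompat : TopCat.Presheaf.IsCompatible F.1 U' sf := by
    rintro (_ | _) (_ | _)
    · rfl
    · have e : (homOfLE (inf_le_left : B ⊓ A ≤ B)) =
          homOfLE (by rw [inf_comm] : B ⊓ A ≤ A ⊓ B) ≫ homOfLE (inf_le_right : A ⊓ B ≤ B) :=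
        Subsingleton.elim _ _
      have e' : (homOfLE (inf_le_right : B ⊓ A ≤ A)) =
          homOfLE (by rw [inf_comm] : B ⊓ A ≤ A ⊓ B) ≫ homOfLE (inf_le_left : A ⊓ B ≤ A) :=
        Subsingleton.elim _ _
      change (F.obj.map (homOfLE (inf_le_left : B ⊓ A ≤ B)).op).hom b =
        (F.obj.map (homOfLE (inf_le_right : B ⊓ A ≤ A)).op).hom a
      rw [e, e', op_comp, op_comp, F.obj.map_comp, F.obj.map_comp]
      change (F.obj.map _).hom ((F.obj.map _).hom b) = (F.obj.map _).hom ((F.obj.map _).hom a)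
      rw [hab]
    · exact hab
    · rfl
  obtain ⟨g, hg, -⟩ := TopCat.Sheaf.existsUnique_gluing' F U' V iUV hc sf hcompat
  exact ⟨g, hg true, hg false⟩

/-- **`Γ_Z` of a flasque sheaf is flasque.** -/
theorem isFlasque_sectSupp (A : CohTop.Ab X) [TopCat.Sheaf.IsFlasque A] :
    TopCat.Sheaf.IsFlasque (CohCx.sectSupp U A) where
  epi {V' W'} i := by
    rw [AddCommGrpCat.epi_iff_surjective]
    intro t
    obtain ⟨V⟩ := V'
    obtain ⟨W⟩ := W'
    have hWV : W ≤ V := leOfHom i.unop
    -- the section `s` of `A` over `W`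
    have hs0 := sectSuppι_app_mem U A W t
    -- glue `s` and `0`
    obtain ⟨g, hg1, hg2⟩ := glue₂ A (V := W ⊔ (V ⊓ U)) (homOfLE le_sup_left) (homOfLE le_sup_right)
      le_rfl (((sectSuppι U A).hom.app (op W)).hom t) (0 : A.obj.obj (op (V ⊓ U))) (by
        rw [map_zero]
        have e : (homOfLE (inf_le_left : W ⊓ (V ⊓ U) ≤ W)) =
            homOfLE (le_inf inf_le_left (inf_le_right.trans inf_le_right) : W ⊓ (V ⊓ U) ≤ W ⊓ U) ≫
              homOfLE (inf_le_left : W ⊓ U ≤ W) := Subsingleton.elim _ _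
        rw [e, op_comp, A.obj.map_comp]
        change (A.obj.map _).hom ((A.obj.map _).hom _) = 0
        rw [hs0, map_zero])
    -- extend to `V`
    obtain ⟨s', hs'⟩ := (AddCommGrpCat.epi_iff_surjective
      (A.obj.map (homOfLE (sup_le hWV inf_le_left : W ⊔ (V ⊓ U) ≤ V)).op)).mp
      (TopCat.Presheaf.IsFlasque.epi _) g
    have hs'U : (A.obj.map (homOfLE (inf_le_left : V ⊓ U ≤ V)).op).hom s' = 0 := by
      have e : (homOfLE (inf_le_left : V ⊓ U ≤ V)) =
          homOfLE (le_sup_right : V ⊓ U ≤ W ⊔ (V ⊓ U)) ≫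
            homOfLE (sup_le hWV inf_le_left : W ⊔ (V ⊓ U) ≤ V) := Subsingleton.elim _ _
      rw [e, op_comp, A.obj.map_comp]
      change (A.obj.map _).hom ((A.obj.map _).hom s') = 0
      rw [hs']
      exact hg2
    obtain ⟨t', ht'⟩ := exists_sectSupp_of_mem U A V s' hs'U
    refine ⟨t', ?_⟩
    apply sectSuppι_app_injective U A W
    have hnat := ConcreteCategory.congr_hom ((sectSuppι U A).hom.naturality i) t'
    refine Eq.trans hnat ?_
    change (A.obj.map i).hom (((sectSuppι U A).hom.app (op V)).hom t') = _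
    rw [ht']
    have e : i = (homOfLE (le_sup_left : W ≤ W ⊔ (V ⊓ U)) ≫
        homOfLE (sup_le hWV inf_le_left : W ⊔ (V ⊓ U) ≤ V)).op := Subsingleton.elim _ _
    rw [e, op_comp, A.obj.map_comp]
    change (A.obj.map _).hom ((A.obj.map _).hom s') = _
    rw [hs']
    exact hg1

end Groth.Agent.Lib.Helper2.LocCohZLib
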