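import Groth.Prelude.Def_SuppFam
import Groth.Agent.Lib.Helper2.LocCohZ.Excision
import Groth.Agent.Lib.Helper13.ExtPresheaf
import Groth.Agent.Lib.Helper13.DerivedCommute

/-!
# The local cohomology sheaves are the sheafification of the presheaf of cohomology with supports
(helper2)
-/

set_option autoImplicit false
universe u

noncomputable section

namespace Groth.Agent.Lib.Helper2.LocCohZLib.ShPre

open CategoryTheory CategoryTheory.Limits Opposite TopologicalSpace Abelian
open Groth.Agent.Lib.Helper3.OpenEmbSheaf Groth.Agent.Lib.Helper2.LocCohZLib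
open Groth.Agent.Lib.Helper13

variable {X : TopCat.{u}} {W V : Opens X} (h : W ≤ V)

/-- `V' ↦ ℤ_{V ⊓ V'}/ℤ_{W ⊓ V'}`. -/
def zFun : Opens X ⥤ CohTop.Ab X where
  obj V' := LocCohZ.zq (inf_le_inf_right V' h)
  map {V' V''} g := LocCohZ.zqMap (inf_le_inf_right V'' h) (inf_le_inf_right V' h)
    (inf_le_inf_left W (leOfHom g)) (inf_le_inf_left V (leOfHom g))
  map_id V' := SuppFam.zqMap_id _
  map_comp {V' V'' V'''} g g' := (SuppFam.zqMap_comp _ _ _ _ _ _ _).symm

/-- Step A: the Ext presheaf of `zFun` is `SuppFam.HZpre`. -/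
def extPreIso (F : CohTop.Ab X) (q : ℕ) : ExtPresheaf.extPre (zFun h) F q ≅ SuppFam.HZpre F q h :=
  NatIso.ofComponents (fun _ => Iso.refl _) (by
    intro U U' g
    change (ExtPresheaf.extPre (zFun h) F q).map g ≫ 𝟙 _ = 𝟙 _ ≫ (SuppFam.HZpre F q h).map g
    rw [Category.comp_id, Category.id_comp]
    rfl)

lemma homZqEquiv_zqMap {W V W' V' : Opens X} (h : W ≤ V) (h' : W' ≤ V') (hW : W' ≤ W) (hV : V' ≤ V)
    (F : CohTop.Ab X) (x : LocCohZ.zq h ⟶ F) :
    ((homZqEquiv h' F (LocCohZ.zqMap h h' hW hV ≫ x) : LocCohZ.sectZ F h') : F.obj.obj (op V')) =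
      (F.obj.map (homOfLE hV).op).hom (homZqEquiv h F x : LocCohZ.sectZ F h).1 := by
  rw [homZqEquiv_apply_coe, homZqEquiv_apply_coe, ← CohFree.evalGen_freeSheafMap_comp]
  congr 1
  simp only [LocCohZ.zqMap, cokernel.map, cokernel.π_desc_assoc, Category.assoc]

/-- the trace of `U` on the subspace `V`. -/
abbrev Tr (V U : Opens X) : Opens (TopCat.of V) := (Opens.map (CohCx.incl V)).obj U

lemma Fj_Tr (V U : Opens X) : (Fj V).obj (Tr V U) = V ⊓ U := by
  rw [inf_comm]
  exact image_preimage_eq V U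

include h in
lemma Fj_Tr_inf (U : Opens X) : (Fj V).obj (Tr V U ⊓ SuppFam.inOpen V W) = W ⊓ U := by
  apply Opens.ext
  ext x
  constructor
  · rintro ⟨z, ⟨hz1, hz2⟩, rfl⟩
    exact ⟨hz2, hz1⟩
  · rintro ⟨hW, hU⟩
    exact ⟨⟨x, h hW⟩, ⟨hU, hW⟩, rfl⟩

/-- the underlying section of `F` over `j(j⁻¹ U)` of a section of `Γ_Z(F)` over `U`. -/
def ιsec (F : CohTop.Ab X) (U : Opens X) :
    ((SuppFam.sectSuppLC h).obj F).obj.obj (op U) →+ F.obj.obj (op ((Fj V).obj (Tr V U))) :=
  ((sectSuppι (SuppFam.inOpen V W) (CohTop.restr F V)).hom.app (op (Tr V U))).hom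

lemma ιsec_injective (F : CohTop.Ab X) (U : Opens X) : Function.Injective (ιsec h F U) :=
  sectSuppι_app_injective (SuppFam.inOpen V W) (CohTop.restr F V) (Tr V U)

lemma ιsec_mem (F : CohTop.Ab X) (U : Opens X) (t : ((SuppFam.sectSuppLC h).obj F).obj.obj (op U)) :
    (F.obj.map (homOfLE ((Fj V).map (homOfLE
      (inf_le_left : Tr V U ⊓ SuppFam.inOpen V W ≤ Tr V U))).le).op).hom (ιsec h F U t) = 0 :=
  sectSuppι_app_mem (SuppFam.inOpen V W) (CohTop.restr F V) (Tr V U) t

lemma exists_ιsec (F : CohTop.Ab X) (U : Opens X) (y : F.obj.obj (op ((Fj V).obj (Tr V U))))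
    (hy : (F.obj.map (homOfLE ((Fj V).map (homOfLE
      (inf_le_left : Tr V U ⊓ SuppFam.inOpen V W ≤ Tr V U))).le).op).hom y = 0) :
    ∃ t, ιsec h F U t = y :=
  exists_sectSupp_of_mem (SuppFam.inOpen V W) (CohTop.restr F V) (Tr V U) y hy

/-- the underlying section of `F` over `V ⊓ U` of a section of `Γ_Z(F)` over `U`. -/
def secFun (F : CohTop.Ab X) (U : Opens X) :
    ((SuppFam.sectSuppLC h).obj F).obj.obj (op U) →+ F.obj.obj (op (V ⊓ U)) :=
  (F.obj.map (homOfLE (Fj_Tr V U).ge).op).hom.comp (ιsec h F U)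

lemma secFun_apply (F : CohTop.Ab X) (U : Opens X)
    (t : ((SuppFam.sectSuppLC h).obj F).obj.obj (op U)) :
    secFun h F U t = (F.obj.map (homOfLE (Fj_Tr V U).ge).op).hom (ιsec h F U t) := rfl

lemma secFun_injective (F : CohTop.Ab X) (U : Opens X) : Function.Injective (secFun h F U) := by
  intro a b hab
  apply ιsec_injective h F U
  have := congrArg (F.obj.map (homOfLE (Fj_Tr V U).le).op).hom hab
  rw [secFun_apply, secFun_apply, map_map_id, map_map_id] at this
  exact this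

lemma secFun_mem (F : CohTop.Ab X) (U : Opens X) (t : ((SuppFam.sectSuppLC h).obj F).obj.obj (op U)) :
    secFun h F U t ∈ LocCohZ.sectZ F (inf_le_inf_right U h) := by
  rw [AddMonoidHom.mem_ker, secFun_apply]
  rw [map_map_eq F (Fj_Tr V U).ge _ ((Fj V).map (homOfLE
    (inf_le_left : Tr V U ⊓ SuppFam.inOpen V W ≤ Tr V U))).le (Fj_Tr_inf h U).ge, ιsec_mem, map_zero]

lemma secFun_surj (F : CohTop.Ab X) (U : Opens X) (s : LocCohZ.sectZ F (inf_le_inf_right U h)) :
    ∃ t, secFun h F U t = s.1 := by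
  have hs : (F.obj.map (homOfLE (inf_le_inf_right U h)).op).hom s.1 = 0 := s.2
  obtain ⟨t, ht⟩ := exists_ιsec h F U ((F.obj.map (homOfLE (Fj_Tr V U).le).op).hom s.1) (by
      rw [map_map_eq F (Fj_Tr V U).le _ (inf_le_inf_right U h) (Fj_Tr_inf h U).le, hs, map_zero])
  refine ⟨t, ?_⟩
  rw [secFun_apply, ht]
  exact map_map_id F _ _ s.1

/-- sections of `Γ_Z(F)` over `U` are the sections of `F` over `V ⊓ U` vanishing on `W ⊓ U`. -/
def secEquiv (F : CohTop.Ab X) (U : Opens X) :
    ((SuppFam.sectSuppLC h).obj F).obj.obj (op U) ≃+ LocCohZ.sectZ F (inf_le_inf_right U h) :=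
  AddEquiv.ofBijective
    ((secFun h F U).codRestrict (LocCohZ.sectZ F (inf_le_inf_right U h)) (secFun_mem h F U))
    ⟨fun a b hab => secFun_injective h F U (congrArg Subtype.val hab),
      fun s => by
        obtain ⟨t, ht⟩ := secFun_surj h F U s
        exact ⟨t, Subtype.ext ht⟩⟩

lemma secEquiv_coe (F : CohTop.Ab X) (U : Opens X)
    (t : ((SuppFam.sectSuppLC h).obj F).obj.obj (op U)) :
    (secEquiv h F U t).1 = secFun h F U t := rfl

lemma ιsec_res (F : CohTop.Ab X) {U U' : Opens X} (g : U' ≤ U)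
    (t : ((SuppFam.sectSuppLC h).obj F).obj.obj (op U)) :
    ιsec h F U' ((((SuppFam.sectSuppLC h).obj F).obj.map (homOfLE g).op).hom t) =
      (F.obj.map (homOfLE ((Fj V).map ((Opens.map (CohCx.incl V)).map (homOfLE g))).le).op).hom
        (ιsec h F U t) :=
  ConcreteCategory.congr_hom ((sectSuppι (SuppFam.inOpen V W) (CohTop.restr F V)).hom.naturality
    ((Opens.map (CohCx.incl V)).map (homOfLE g)).op) t

lemma secFun_res (F : CohTop.Ab X) {U U' : Opens X} (g : U' ≤ U)
    (t : ((SuppFam.sectSuppLC h).obj F).obj.obj (op U)) :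
    secFun h F U' ((((SuppFam.sectSuppLC h).obj F).obj.map (homOfLE g).op).hom t) =
      (F.obj.map (homOfLE (inf_le_inf_left V g)).op).hom (secFun h F U t) := by
  rw [secFun_apply, secFun_apply, ιsec_res]
  exact map_map_eq F _ _ _ _ _

lemma ιsec_map {F G : CohTop.Ab X} (φ : F ⟶ G) (U : Opens X)
    (t : ((SuppFam.sectSuppLC h).obj F).obj.obj (op U)) :
    ιsec h G U ((((SuppFam.sectSuppLC h).map φ).hom.app (op U)).hom t) =
      (φ.hom.app (op ((Fj V).obj (Tr V U)))).hom (ιsec h F U t) := by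
  have e : (LocCohZ.sectSuppF (SuppFam.inOpen V W)).map ((CohTop.restrFunctor V).map φ) ≫
      sectSuppι (SuppFam.inOpen V W) (CohTop.restr G V) =
      sectSuppι (SuppFam.inOpen V W) (CohTop.restr F V) ≫ (CohTop.restrFunctor V).map φ := by
    simp [LocCohZ.sectSuppF]
  have e2 := congrArg (fun m => (m.hom.app (op (Tr V U))).hom t) e
  exact e2

lemma secFun_map {F G : CohTop.Ab X} (φ : F ⟶ G) (U : Opens X)
    (t : ((SuppFam.sectSuppLC h).obj F).obj.obj (op U)) :
    secFun h G U ((((SuppFam.sectSuppLC h).map φ).hom.app (op U)).hom t) =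
      (φ.hom.app (op (V ⊓ U))).hom (secFun h F U t) := by
  rw [secFun_apply, secFun_apply, ιsec_map]
  exact (ConcreteCategory.congr_hom (φ.hom.naturality (homOfLE (Fj_Tr V U).ge).op)
    (ιsec h F U t)).symm

/-- the comparison on sections. -/
def secHomEquiv (F : CohTop.Ab X) (U : Opens X) :
    ((SuppFam.sectSuppLC h).obj F).obj.obj (op U) ≃+ (LocCohZ.zq (inf_le_inf_right U h) ⟶ F) :=
  (secEquiv h F U).trans (homZqEquiv (inf_le_inf_right U h) F).symm

lemma homZqEquiv_secHomEquiv (F : CohTop.Ab X) (U : Opens X)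
    (t : ((SuppFam.sectSuppLC h).obj F).obj.obj (op U)) :
    (homZqEquiv (inf_le_inf_right U h) F (secHomEquiv h F U t)).1 = secFun h F U t := by
  change (homZqEquiv (inf_le_inf_right U h) F
    ((homZqEquiv (inf_le_inf_right U h) F).symm (secEquiv h F U t))).1 = _
  rw [AddEquiv.apply_symm_apply]
  rfl

lemma secHomEquiv_res (F : CohTop.Ab X) {U U' : Opens X} (g : U' ≤ U)
    (t : ((SuppFam.sectSuppLC h).obj F).obj.obj (op U)) :
    secHomEquiv h F U' ((((SuppFam.sectSuppLC h).obj F).obj.map (homOfLE g).op).hom t) =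
      LocCohZ.zqMap (inf_le_inf_right U h) (inf_le_inf_right U' h)
        (inf_le_inf_left W g) (inf_le_inf_left V g) ≫ secHomEquiv h F U t := by
  apply (homZqEquiv (inf_le_inf_right U' h) F).injective
  apply Subtype.ext
  rw [homZqEquiv_secHomEquiv, homZqEquiv_zqMap, homZqEquiv_secHomEquiv]
  exact secFun_res h F g t

lemma secHomEquiv_map {F G : CohTop.Ab X} (φ : F ⟶ G) (U : Opens X)
    (t : ((SuppFam.sectSuppLC h).obj F).obj.obj (op U)) :
    secHomEquiv h G U ((((SuppFam.sectSuppLC h).map φ).hom.app (op U)).hom t) =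
      secHomEquiv h F U t ≫ φ := by
  apply (homZqEquiv (inf_le_inf_right U h) G).injective
  apply Subtype.ext
  rw [homZqEquiv_secHomEquiv, homZqEquiv_naturality, homZqEquiv_secHomEquiv]
  exact secFun_map h φ U t

/-- the presheaf-level comparison for a fixed sheaf. -/
def preIsoApp (F : CohTop.Ab X) :
    ((SuppFam.sectSuppLC h).obj F).obj ≅ (ExtPresheaf.homPre (zFun h)).obj F :=
  NatIso.ofComponents (fun U => AddEquiv.toAddCommGrpIso (secHomEquiv h F U.unop)) (by
    intro U U' g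
    ext t
    exact secHomEquiv_res h F (leOfHom g.unop) t)

/-- the presheaf-level comparison. -/
def preIso : SuppFam.sectSuppLC h ⋙ sheafToPresheaf (Opens.grothendieckTopology X) AddCommGrpCat.{u} ≅
    ExtPresheaf.homPre (zFun h) :=
  NatIso.ofComponents (fun F => preIsoApp h F) (by
    intro F G φ
    ext U t
    exact secHomEquiv_map h φ U.unop t)

/-- Step B: `Γ_Z` is the sheafification of `F ↦ (V' ↦ Hom(ℤ_{V ⊓ V'}/ℤ_{W ⊓ V'}, F))`. -/
def sectSuppLCIso : SuppFam.sectSuppLC h ≅ ExtPresheaf.homPre (zFun h) ⋙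
    presheafToSheaf (Opens.grothendieckTopology X) AddCommGrpCat.{u} :=
  (Functor.rightUnitor _).symm ≪≫
    Functor.isoWhiskerLeft (SuppFam.sectSuppLC h)
      (sheafificationNatIso (Opens.grothendieckTopology X) AddCommGrpCat.{u}) ≪≫
    (Functor.associator _ _ _).symm ≪≫
    Functor.isoWhiskerRight (preIso h)
      (presheafToSheaf (Opens.grothendieckTopology X) AddCommGrpCat.{u})

/-- **`ℋ^q_Z(F)` is the sheaf associated to `V' ↦ H^q_{Z ∩ V'}(V', F)`.** -/
theorem nonempty_HZshLC_iso (F : CohTop.Ab X) (q : ℕ) :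
    Nonempty ((SuppFam.HZshLC h q).obj F ≅
      (presheafToSheaf (Opens.grothendieckTopology X) AddCommGrpCat.{u}).obj
        (SuppFam.HZpre F q h)) :=
  ⟨DerivedCommute.rightDerivedObjIsoOfNatIso (sectSuppLCIso h) q F ≪≫
    DerivedCommute.rightDerivedCompExactObjIso (ExtPresheaf.homPre (zFun h))
      (presheafToSheaf (Opens.grothendieckTopology X) AddCommGrpCat.{u}) q F ≪≫
    (presheafToSheaf (Opens.grothendieckTopology X) AddCommGrpCat.{u}).mapIso
      (ExtPresheaf.rightDerivedIso (zFun h) F q ≪≫ extPreIso h F q)⟩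

end Groth.Agent.Lib.Helper2.LocCohZLib.ShPre
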