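import Mathlib.CategoryTheory.Abelian.Refinements
import Mathlib.Algebra.Homology.ShortComplex.ShortExact
import Mathlib.Algebra.Homology.ShortComplex.ExactFunctor

/-!
# The third isomorphism theorem for cokernels (helper2)

For monomorphisms `a : A ⟶ B`, `b : B ⟶ D`: `0 ⟶ B/A ⟶ D/A ⟶ D/B ⟶ 0` is short exact.
-/

set_option autoImplicit false
universe v u

namespace Groth.Agent.Lib.Helper2.LocCohZLib

open CategoryTheory CategoryTheory.Limits

variable {C : Type u} [Category.{v} C] [Abelian C]

theorem cokernel_triple_shortExact {A B D : C} (a : A ⟶ B) (b : B ⟶ D) (c : A ⟶ D)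
    (hc : a ≫ b = c) [Mono b]
    (f : cokernel a ⟶ cokernel c) (g : cokernel c ⟶ cokernel b)
    (hf : cokernel.π a ≫ f = b ≫ cokernel.π c) (hg : cokernel.π c ≫ g = cokernel.π b) :
    ∃ w : f ≫ g = 0, (ShortComplex.mk f g w).ShortExact := by
  subst hc
  have w : f ≫ g = 0 := by
    rw [← cancel_epi (cokernel.π a), ← Category.assoc, hf, Category.assoc, hg, cokernel.condition,
      comp_zero]
  refine ⟨w, ?_⟩
  have hg_epi : Epi g := by
    have : Epi (cokernel.π (a ≫ b) ≫ g) := by
      rw [hg]
      infer_instance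
    exact epi_of_epi (cokernel.π (a ≫ b)) g
  have hf_mono : Mono f := by
    refine Preadditive.mono_of_cancel_zero _ (fun {T} x hx => ?_)
    obtain ⟨T', π, hπ, y, hy⟩ := surjective_up_to_refinements_of_epi (cokernel.π a) x
    have h1 : (y ≫ b) ≫ cokernel.π (a ≫ b) = 0 := by
      rw [Category.assoc, ← hf, ← Category.assoc, ← hy, Category.assoc, hx, comp_zero]
    obtain ⟨T'', π', hπ', z, hz⟩ :=
      (ShortComplex.exact_cokernel (a ≫ b)).exact_up_to_refinements (y ≫ b) h1
    have h2 : π' ≫ y = z ≫ a := by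
      rw [← cancel_mono b, Category.assoc, Category.assoc]
      exact hz
    rw [← cancel_epi π, ← cancel_epi π', comp_zero, comp_zero, hy, ← Category.assoc, h2,
      Category.assoc, cokernel.condition, comp_zero]
  refine ShortComplex.ShortExact.mk' ?_ hf_mono hg_epi
  rw [ShortComplex.exact_iff_exact_up_to_refinements]
  intro T x hx
  obtain ⟨T', π, hπ, y, hy⟩ := surjective_up_to_refinements_of_epi (cokernel.π (a ≫ b)) x
  have h1 : y ≫ cokernel.π b = 0 := by
    rw [← hg, ← Category.assoc, ← hy, Category.assoc]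
    exact (congrArg (fun t => π ≫ t) hx).trans comp_zero
  obtain ⟨T'', π', hπ', z, hz⟩ :=
    (ShortComplex.exact_cokernel b).exact_up_to_refinements y h1
  refine ⟨T'', π' ≫ π, epi_comp _ _, z ≫ cokernel.π a, ?_⟩
  have hz' : π' ≫ y = z ≫ b := hz
  change (π' ≫ π) ≫ x = (z ≫ cokernel.π a) ≫ f
  rw [Category.assoc, hy, ← Category.assoc, hz', Category.assoc, Category.assoc, hf]

end Groth.Agent.Lib.Helper2.LocCohZLib
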