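import Groth.Agent.Lib.Helper2.LocCohZ.OpenSES
import Groth.Agent.Lib.Helper2.GSS.DimShiftIff

/-!
# Vanishing of the local cohomology sheaves versus vanishing of the local cohomology groups (helper2)

`ℋ^i_Z(F) = 0` for `i < n` iff `H^i_{Z ∩ V}(V, F) = 0` for all opens `V` and `i < n`.
Proof by dimension shifting along `0 ⟶ F ⟶ I/Γ_Z I ⟶ C ⟶ 0`.
-/

set_option autoImplicit false
universe u

namespace Groth.Agent.Lib.Helper2.LocCohZLib

open CategoryTheory CategoryTheory.Limits Opposite TopologicalSpace Abelian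

variable {X : TopCat.{u}} (U : Opens X)

/-! ### Degree zero -/

lemma section_eq_zero_of_isZero {G : CohTop.Ab X} (hG : IsZero G) (V : Opens X)
    (w : G.obj.obj (op V)) : w = 0 := by
  have h : 𝟙 G = 0 := hG.eq_of_src _ _
  have h2 := congrArg (fun φ : G ⟶ G => (φ.hom.app (op V)).hom w) h
  exact h2

lemma isZero_of_sections (G : CohTop.Ab X) (h : ∀ (V : Opens X) (w : G.obj.obj (op V)), w = 0) :
    IsZero G := by
  rw [IsZero.iff_id_eq_zero]
  exact hom_eq_zero_of_app _ (fun V w => h V _)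

/-- `Γ_Z F = 0` iff `Γ_{Z ∩ V}(V, F) = 0` for all `V`. -/
theorem isZero_sectSupp_iff (F : CohTop.Ab X) :
    IsZero (CohCx.sectSupp U F) ↔
      ∀ V : Opens X, Subsingleton (LocCohZ.HZ F 0 (inf_le_left : V ⊓ U ≤ V)) := by
  constructor
  · intro h V
    have hs : ∀ s : LocCohZ.sectZ F (inf_le_left : V ⊓ U ≤ V), s = 0 := by
      intro s
      obtain ⟨t, ht⟩ := exists_sectSupp_of_mem U F V s.1 s.2
      apply Subtype.ext
      rw [← ht, section_eq_zero_of_isZero h V t, map_zero]
      rfl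
    refine ⟨fun x y => (LocCohZ.sect0Equiv F (inf_le_left : V ⊓ U ≤ V)).injective ?_⟩
    rw [hs (LocCohZ.sect0Equiv F _ x), hs (LocCohZ.sect0Equiv F _ y)]
  · intro h
    apply isZero_of_sections
    intro V t
    apply sectSuppι_app_injective U F V
    rw [map_zero]
    have hmem := sectSuppι_app_mem U F V t
    have := h V
    have e : (⟨_, hmem⟩ : LocCohZ.sectZ F (inf_le_left : V ⊓ U ≤ V)) = 0 := by
      apply (LocCohZ.sect0Equiv F (inf_le_left : V ⊓ U ≤ V)).symm.injective
      exact Subsingleton.elim _ _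
    exact congrArg Subtype.val e

lemma isZero_HZsh_zero_iff (F : CohTop.Ab X) :
    IsZero ((LocCohZ.HZsh U 0).obj F) ↔ IsZero (CohCx.sectSupp U F) :=
  ((LocCohZ.sectSuppF U).rightDerivedZeroIsoSelf.app F).isZero_iff

/-! ### The modified injective embedding -/

instance preservesFiniteLimits_pullPush : PreservesFiniteLimits (pullPush U) := by
  unfold pullPush
  haveI : PreservesLimitsOfSize.{0, 0} (CohTop.push (CohCx.incl U)) :=
    (adjPull U).rightAdjoint_preservesLimits
  infer_instance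

/-- `0 ⟶ Γ_Z I ⟶ I ⟶ I/Γ_Z I ⟶ 0`. -/
noncomputable def quotSeq (I : CohTop.Ab X) : ShortComplex (CohTop.Ab X) :=
  ShortComplex.mk (sectSuppι U I) (cokernel.π (sectSuppι U I)) (cokernel.condition _)

lemma quotSeq_shortExact (I : CohTop.Ab X) : (quotSeq U I).ShortExact where
  exact := ShortComplex.exact_of_g_is_cokernel _ (cokernelIsCokernel _)
  mono_f := inferInstanceAs (Mono (kernel.ι _))
  epi_g := inferInstanceAs (Epi (cokernel.π _))

instance isFlasque_quot (I : CohTop.Ab X) [TopCat.Sheaf.IsFlasque I] :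
    TopCat.Sheaf.IsFlasque (cokernel (sectSuppι U I)) := by
  haveI : TopCat.Sheaf.IsFlasque (quotSeq U I).X₁ := isFlasque_sectSupp U I
  haveI : TopCat.Sheaf.IsFlasque (quotSeq U I).X₂ := ‹_›
  exact TopCat.Sheaf.IsFlasque.of_shortExact_of_isFlasque₁₂ (quotSeq_shortExact U I)

/-- `Γ_Z (I/Γ_Z I) = 0` for flasque `I`. -/
theorem isZero_sectSupp_quot (I : CohTop.Ab X) [TopCat.Sheaf.IsFlasque I] :
    IsZero (CohCx.sectSupp U (cokernel (sectSuppι U I))) := by
  haveI : TopCat.Sheaf.IsFlasque (quotSeq U I).X₁ := isFlasque_sectSupp U I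
  have hepi : Epi (sectSuppMap U (quotSeq U I).g) := epi_sectSuppMap U _ (quotSeq_shortExact U I)
  have hz : sectSuppMap U (quotSeq U I).g = 0 := by
    refine (cancel_mono (sectSuppι U (cokernel (sectSuppι U I)))).1 (Eq.trans ?_ zero_comp.symm)
    exact (sectSuppMap_ι U _).trans (cokernel.condition _)
  exact @IsZero.of_epi_eq_zero _ _ _ _ _ (sectSuppMap U (quotSeq U I).g) hepi hz

/-- if `Γ_Z F = 0`, a monomorphism `F ⟶ I` stays a monomorphism after passing to `I/Γ_Z I`. -/
theorem mono_comp_quot {F I : CohTop.Ab X} (ι : F ⟶ I) [Mono ι]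
    (hF : IsZero (CohCx.sectSupp U F)) : Mono (ι ≫ cokernel.π (sectSuppι U I)) := by
  apply Preadditive.mono_of_cancel_zero
  intro W x hx
  have hx' : (x ≫ ι) ≫ (quotSeq U I).g = 0 := by rw [Category.assoc]; exact hx
  haveI := (quotSeq_shortExact U I).mono_f
  have hy := (quotSeq_shortExact U I).exact.lift_f (x ≫ ι) hx'
  set y := (quotSeq_shortExact U I).exact.lift (x ≫ ι) hx'
  have h1 : x ≫ (adjPull U).unit.app F ≫ (pullPush U).map ι = 0 := by
    have hn := (adjPull U).unit.naturality ι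
    have : (adjPull U).unit.app F ≫ (pullPush U).map ι = ι ≫ (adjPull U).unit.app I := hn.symm
    have hk : (quotSeq U I).f ≫ (adjPull U).unit.app I = 0 := kernel.condition _
    rw [this]
    calc x ≫ ι ≫ (adjPull U).unit.app I = (x ≫ ι) ≫ (adjPull U).unit.app I :=
          (Category.assoc _ _ _).symm
      _ = (y ≫ (quotSeq U I).f) ≫ (adjPull U).unit.app I :=
          congrArg (· ≫ (adjPull U).unit.app I) hy.symm
      _ = 0 := by rw [Category.assoc, hk, comp_zero]
  haveI : Mono ((pullPush U).map ι) := inferInstance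
  have h2 : x ≫ (adjPull U).unit.app F = 0 := by
    rw [← cancel_mono ((pullPush U).map ι), Category.assoc, h1, zero_comp]
  have h3 : x = kernel.lift _ x h2 ≫ sectSuppι U F := (kernel.lift_ι _ _ _).symm
  rw [h3, hF.eq_of_tgt (kernel.lift _ x h2) 0, zero_comp]

/-! ### Dimension shifting -/

/-- if `Γ_Z F = 0` there is `C` with `ℋ^i_Z(C) ≅ ℋ^{i+1}_Z(F)` and `H^i_{Z∩V}(V, C) ≅ H^{i+1}_{Z∩V}(V, F)` for all
`i ≥ 0` (stated as equivalences of vanishing). -/
theorem exists_shift (F : CohTop.Ab X) (hF : IsZero (CohCx.sectSupp U F)) :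
    ∃ C : CohTop.Ab X,
      (∀ i : ℕ, IsZero ((LocCohZ.HZsh U i).obj C) ↔ IsZero ((LocCohZ.HZsh U (i + 1)).obj F)) ∧
      ∀ (V : Opens X) (i : ℕ), Subsingleton (LocCohZ.HZ C i (inf_le_left : V ⊓ U ≤ V)) ↔
        Subsingleton (LocCohZ.HZ F (i + 1) (inf_le_left : V ⊓ U ≤ V)) := by
  let I := Injective.under F
  haveI : TopCat.Sheaf.IsFlasque I := Groth.Agent.Lib.Helper1.FlasqueAcyclic.isFlasque_of_injective I
  let I' := cokernel (sectSuppι U I)
  let m : F ⟶ I' := Injective.ι F ≫ cokernel.π (sectSuppι U I)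
  haveI : Mono m := mono_comp_quot U (Injective.ι F) hF
  let S : ShortComplex (CohTop.Ab X) := ShortComplex.mk m (cokernel.π m) (cokernel.condition m)
  have hS : S.ShortExact :=
    { exact := ShortComplex.exact_of_g_is_cokernel _ (cokernelIsCokernel _)
      mono_f := ‹Mono m›
      epi_g := inferInstanceAs (Epi (cokernel.π m)) }
  have hI'0 : IsZero (CohCx.sectSupp U I') := isZero_sectSupp_quot U I
  haveI : TopCat.Sheaf.IsFlasque I' := isFlasque_quot U I
  have h1 : ∀ k : ℕ, IsZero ((LocCohZ.HZsh U k).obj S.X₂) := by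
    intro k
    cases k with
    | zero => exact (isZero_HZsh_zero_iff U I').2 hI'0
    | succ k => exact isZero_HZsh_of_isFlasque U I' k
  have h2 : ∀ (V : Opens X) (k : ℕ),
      Subsingleton (LocCohZ.HZ S.X₂ k (inf_le_left : V ⊓ U ≤ V)) := by
    intro V k
    cases k with
    | zero => exact (isZero_sectSupp_iff U I').1 hI'0 V
    | succ k => exact flasque_HZ_subsingleton (inf_le_left : V ⊓ U ≤ V) k I'
  refine ⟨S.X₃, fun i => ?_, fun V i => ?_⟩
  · exact DimShiftIff.isZero_iff_of_isZero (LocCohZ.sectSuppF U) S hS i (h1 i) (h1 (i + 1))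
  · exact DimShiftIff.ext_subsingleton_iff _ S hS i (h2 V i) (h2 V (i + 1))

/-- **`ℋ^i_Z(F) = 0` for `i < n` iff `H^i_{Z ∩ V}(V, F) = 0` for all `V` and `i < n`.** -/
theorem isZero_HZsh_iff (n : ℕ) (F : CohTop.Ab X) :
    (∀ i : ℕ, i < n → IsZero ((LocCohZ.HZsh U i).obj F)) ↔
      ∀ (V : Opens X) (i : ℕ), i < n →
        Subsingleton (LocCohZ.HZ F i (inf_le_left : V ⊓ U ≤ V)) := by
  induction n generalizing F with
  | zero => exact ⟨fun _ V i hi => absurd hi (Nat.not_lt_zero i), fun _ i hi => absurd hi (Nat.not_lt_zero i)⟩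
  | succ n ih =>
    constructor
    · intro hP
      have hΓ := (isZero_HZsh_zero_iff U F).1 (hP 0 (Nat.succ_pos n))
      obtain ⟨C, hC1, hC2⟩ := exists_shift U F hΓ
      have hQC := (ih C).1 (fun i hi => (hC1 i).2 (hP (i + 1) (Nat.succ_lt_succ hi)))
      intro V i hi
      cases i with
      | zero => exact (isZero_sectSupp_iff U F).1 hΓ V
      | succ i => exact (hC2 V i).1 (hQC V i (Nat.lt_of_succ_lt_succ hi))
    · intro hQ
      have hΓ := (isZero_sectSupp_iff U F).2 (fun V => hQ V 0 (Nat.succ_pos n))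
      obtain ⟨C, hC1, hC2⟩ := exists_shift U F hΓ
      have hPC := (ih C).2 (fun V i hi => (hC2 V i).2 (hQ V (i + 1) (Nat.succ_lt_succ hi)))
      intro i hi
      cases i with
      | zero => exact (isZero_HZsh_zero_iff U F).2 hΓ
      | succ i => exact (hC1 i).1 (hPC i (Nat.lt_of_succ_lt_succ hi))

end Groth.Agent.Lib.Helper2.LocCohZLib
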